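import Cfsg.Agent.SL2Char.Blocks
import Cfsg.Agent.SL2.Tori
import Cfsg.Agent.SL2.Classes
import Cfsg.Agent.SL2.SylowTwoNormalizer
import Cfsg.Agent.S0154
import Cfsg.Agent.S2437
import Cfsg.Agent.Clifford.Ito
import Cfsg.Agent.S4444

/-!
Counting irreducible characters of degree prime to `ℓ` of `SL₂(q)` and of its Sylow normalizers, `q` odd.
-/

set_option autoImplicit false
set_option linter.unusedSectionVars false
set_option linter.style.haveILetI false

namespace CfsgLib.SL2Char.McKay

open Matrix CfsgLib.SL2 CfsgLib.CharBasics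
open scoped commutatorElement

/-- The number of irreducible characters of degree prime to `ℓ`. -/
noncomputable def good (ℓ : ℕ) (G : Type*) [Group G] : ℕ :=
  Nat.card {χ : Cfsg.IrrCharacter G // ¬ ℓ ∣ Cfsg.charDegree (χ : G → ℂ)}

theorem charDegree_of_one {G : Type*} [Group G] [Finite G] {χ : Cfsg.IrrCharacter G} {n : ℕ}
    (h : (χ : G → ℂ) 1 = (n : ℂ)) : Cfsg.charDegree (χ : G → ℂ) = n := by
  haveI := Fintype.ofFinite G
  rw [apply_one (isCharacter_of_irr χ.2)] at h
  exact_mod_cast h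

theorem good_congr {A B : Type*} [Group A] [Group B] [Finite A] [Finite B] (e : A ≃* B) (ℓ : ℕ) :
    good ℓ A = good ℓ B := by
  refine Nat.card_congr ((Cfsg.Agent.S4444.irrEquiv e).subtypeEquiv fun χ => ?_)
  have h : Cfsg.charDegree ((Cfsg.Agent.S4444.irrEquiv e χ : Cfsg.IrrCharacter B) : B → ℂ) =
      Cfsg.charDegree (χ : A → ℂ) := by
    refine charDegree_of_one ?_
    show (χ : A → ℂ) (e.symm 1) = _
    rw [map_one]
    haveI := Fintype.ofFinite A
    exact apply_one (isCharacter_of_irr χ.2)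
  rw [h]

/-- With an abelian normal subgroup of index prime to `ℓ`, all degrees are prime to `ℓ`. -/
theorem good_eq_classes {G : Type*} [Group G] [Finite G] {ℓ : ℕ} (A : Subgroup G) [A.Normal]
    [IsMulCommutative A] (h : ¬ ℓ ∣ A.index) : good ℓ G = Nat.card (ConjClasses G) := by
  rw [← card_irr]
  exact Nat.card_congr (Equiv.subtypeUnivEquiv fun χ hd => h (hd.trans (CfsgLib.Clifford.ito_dvd χ.2 A)))

theorem linear_count {G : Type*} [Group G] [Finite G] :
    Nat.card {χ : Cfsg.IrrCharacter G // Cfsg.charDegree (χ : G → ℂ) = 1} = (commutator G).index := by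
  haveI := Fintype.ofFinite G
  rw [← Cfsg.Agent.S0154.result]
  refine Nat.card_congr (Equiv.subtypeEquivRight fun χ => ?_)
  rw [apply_one (isCharacter_of_irr χ.2), Nat.cast_eq_one]

/-- In a 2-group the odd degrees are the linear ones. -/
theorem good_two_group {G : Type*} [Group G] [Finite G] (hG : IsPGroup 2 G) :
    good 2 G = (commutator G).index := by
  haveI : Fact (Nat.Prime 2) := ⟨Nat.prime_two⟩
  rw [← linear_count]
  refine Nat.card_congr (Equiv.subtypeEquivRight fun χ => ⟨fun h => ?_, fun h => by rw [h]; norm_num⟩)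
  obtain ⟨n, hn⟩ := hG.exists_card_eq
  obtain ⟨j, -, hj⟩ := (Nat.dvd_prime_pow Nat.prime_two).1 (hn ▸ degree_dvd χ)
  rw [hj] at h ⊢
  cases j with
  | zero => rfl
  | succ j => exact absurd (dvd_pow_self 2 j.succ_ne_zero) h

/-- A group of order 24 with three linear characters has four characters of odd degree. -/
theorem good_twentyfour {G : Type*} [Group G] [Finite G] (hG : Nat.card G = 24)
    (hc : (commutator G).index = 3) : good 2 G = 4 := by
  classical
  haveI := Fintype.ofFinite G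
  haveI := Fintype.ofFinite (Cfsg.IrrCharacter G)
  set d : Cfsg.IrrCharacter G → ℕ := fun χ => Cfsg.charDegree (χ : G → ℂ) with hd
  have hsum : ∑ χ, d χ ^ 2 = 24 := hG ▸ sum_sq_degree
  have h1 : (Finset.univ.filter fun χ => d χ = 1).card = 3 := by
    rw [← hc, ← linear_count, Nat.card_eq_fintype_card, Fintype.card_subtype]
  have hvals : ∀ χ, d χ = 1 ∨ d χ = 2 ∨ d χ = 3 ∨ d χ = 4 := by
    intro χ
    have hle : d χ ^ 2 ≤ 24 := hsum ▸ Finset.single_le_sum (f := fun χ => d χ ^ 2) (fun _ _ => Nat.zero_le _) (Finset.mem_univ χ)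
    have hdvd : d χ ∣ 24 := hG ▸ degree_dvd χ
    have h5 : d χ ≤ 4 := by nlinarith
    have h0 : d χ ≠ 0 := fun h => by rw [h] at hdvd; norm_num at hdvd
    omega
  have hsplit : ∀ χ, d χ ^ 2 = (if d χ = 1 then 1 else 0) + (if d χ = 2 then 4 else 0) + (if d χ = 3 then 9 else 0) +
      (if d χ = 4 then 16 else 0) := by
    intro χ; rcases hvals χ with h | h | h | h <;> rw [h] <;> norm_num
  rw [Finset.sum_congr rfl fun χ _ => hsplit χ, Finset.sum_add_distrib, Finset.sum_add_distrib,
    Finset.sum_add_distrib] at hsum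
  simp only [← Finset.sum_filter, Finset.sum_const, smul_eq_mul] at hsum
  rw [h1] at hsum
  have h3 : (Finset.univ.filter fun χ => d χ = 3).card = 1 := by omega
  have hgood : good 2 G = (Finset.univ.filter fun χ => d χ = 1).card + (Finset.univ.filter fun χ => d χ = 3).card := by
    rw [good, Nat.card_eq_fintype_card, Fintype.card_subtype, ← Finset.card_union_of_disjoint
      (Finset.disjoint_filter.2 fun χ _ h => by omega), ← Finset.filter_or]
    refine congrArg Finset.card (Finset.filter_congr fun χ _ => ?_)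
    show ¬ 2 ∣ d χ ↔ _
    rcases hvals χ with h | h | h | h <;> rw [h] <;> norm_num
  rw [hgood, h1, h3]

theorem card_good_part {β : Type*} (n : β → ℕ) (ℓ c : ℕ) (hn : ∀ b, n b = c) :
    Nat.card {b // ¬ ℓ ∣ n b} = if ℓ ∣ c then 0 else Nat.card β := by
  split_ifs with h
  · haveI : IsEmpty {b // ¬ ℓ ∣ n b} := ⟨fun b => b.2 (by rw [hn]; exact h)⟩
    exact Nat.card_of_isEmpty
  · exact Nat.card_congr (Equiv.subtypeUnivEquiv fun b => by rw [hn]; exact h)

section Special

variable {F : Type*} [Field F] [Fintype F] [DecidableEq F]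
variable {C : Subgroup (SpecialLinearGroup (Fin 2) F)}

local notation "SL" => SpecialLinearGroup (Fin 2) F
local notation "Irr" => Cfsg.IrrCharacter (SpecialLinearGroup (Fin 2) F)

/-- The degrees, with multiplicities, of the irreducible characters of `SL₂(q)`, `q` odd. -/
theorem good_SL (hodd : Odd (Fintype.card F)) (ℓ : ℕ) :
    good ℓ SL = (if ℓ ∣ 1 then 0 else 1) + (if ℓ ∣ Fintype.card F then 0 else 1) +
      (if ℓ ∣ Fintype.card F + 1 then 0 else (Fintype.card F - 3) / 2) +
      (if ℓ ∣ Fintype.card F - 1 then 0 else (Fintype.card F - 1) / 2) +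
      (if ℓ ∣ (Fintype.card F + 1) / 2 then 0 else 2) + (if ℓ ∣ (Fintype.card F - 1) / 2 then 0 else 2) := by
  classical
  obtain ⟨C, T⟩ := exists_torus (F := F)
  obtain ⟨O⟩ := nonempty_oddTable hodd T
  have heps := (eps_odd hodd).2
  haveI : Fintype Irr := Fintype.ofFinite _
  let Kind := Unit ⊕ Unit ⊕ {χ : Irr // IsPS (χ : SL → ℂ)} ⊕ {χ : Irr // IsCU T (χ : SL → ℂ)} ⊕ Bool ⊕ Bool
  let f : Kind → Irr := Sum.elim (fun _ => oneChar) (Sum.elim (fun _ => ⟨St, isIrr_St⟩)
    (Sum.elim Subtype.val (Sum.elim Subtype.val (Sum.elim (fun b => if b then O.h₁ else O.h₂)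
      (fun b => if b then O.s₁ else O.s₂)))))
  have hsurj : Function.Surjective f := by
    intro χ
    rcases O.complete χ with h | h | h | h | rfl | rfl | rfl | rfl
    · exact ⟨Sum.inl (), Subtype.ext (funext fun g => by
        show ((oneChar : Irr) : SL → ℂ) g = _
        rw [oneChar_apply, h])⟩
    · exact ⟨Sum.inr (Sum.inl ()), Subtype.ext h.symm⟩
    · exact ⟨Sum.inr (Sum.inr (Sum.inl ⟨χ, h⟩)), rfl⟩
    · exact ⟨Sum.inr (Sum.inr (Sum.inr (Sum.inl ⟨χ, h⟩))), rfl⟩
    · exact ⟨Sum.inr (Sum.inr (Sum.inr (Sum.inr (Sum.inl true)))), rfl⟩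
    · exact ⟨Sum.inr (Sum.inr (Sum.inr (Sum.inr (Sum.inl false)))), rfl⟩
    · exact ⟨Sum.inr (Sum.inr (Sum.inr (Sum.inr (Sum.inr true)))), rfl⟩
    · exact ⟨Sum.inr (Sum.inr (Sum.inr (Sum.inr (Sum.inr false)))), rfl⟩
  have hPS := card_PS (F := F)
  have hCU := card_CU T
  rw [heps] at hPS hCU
  have hq := Fintype.one_lt_card (α := F)
  have hqodd := Nat.odd_iff.1 hodd
  have hbij : Function.Bijective f := by
    refine (Nat.bijective_iff_surjective_and_card f).2 ⟨hsurj, ?_⟩
    rw [card_irr, card_conjClasses_odd hodd]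
    simp only [Kind, Nat.card_sum, Nat.card_eq_fintype_card (α := Unit), Nat.card_eq_fintype_card (α := Bool),
      Fintype.card_unit, Fintype.card_bool]
    omega
  have d1 : ∀ u : Unit, Cfsg.charDegree (f (Sum.inl u) : SL → ℂ) = 1 := fun u => charDegree_of_one (by
    show ((oneChar : Irr) : SL → ℂ) 1 = _
    rw [oneChar_apply, Nat.cast_one])
  have d2 : ∀ u : Unit, Cfsg.charDegree (f (Sum.inr (Sum.inl u)) : SL → ℂ) = Fintype.card F :=
    fun u => charDegree_of_one deg_St
  have d3 : ∀ a, Cfsg.charDegree (f (Sum.inr (Sum.inr (Sum.inl a))) : SL → ℂ) = Fintype.card F + 1 :=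
    fun a => charDegree_of_one (deg_PS a.2)
  have d4 : ∀ a, Cfsg.charDegree (f (Sum.inr (Sum.inr (Sum.inr (Sum.inl a)))) : SL → ℂ) = Fintype.card F - 1 :=
    fun a => charDegree_of_one (deg_CU T a.2)
  have d5 : ∀ b, Cfsg.charDegree (f (Sum.inr (Sum.inr (Sum.inr (Sum.inr (Sum.inl b))))) : SL → ℂ) =
      (Fintype.card F + 1) / 2 := fun b => by
    cases b
    · exact charDegree_of_one O.hdeg₂
    · exact charDegree_of_one O.hdeg₁
  have d6 : ∀ b, Cfsg.charDegree (f (Sum.inr (Sum.inr (Sum.inr (Sum.inr (Sum.inr b))))) : SL → ℂ) =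
      (Fintype.card F - 1) / 2 := fun b => by
    cases b
    · exact charDegree_of_one O.sdeg₂
    · exact charDegree_of_one O.sdeg₁
  have e : {k : Kind // ¬ ℓ ∣ Cfsg.charDegree (f k : SL → ℂ)} ≃
      {χ : Irr // ¬ ℓ ∣ Cfsg.charDegree (χ : SL → ℂ)} :=
    (Equiv.ofBijective f hbij).subtypeEquiv fun k => Iff.rfl
  rw [good, ← Nat.card_congr e, Nat.card_congr Equiv.subtypeSum, Nat.card_sum,
    Nat.card_congr Equiv.subtypeSum, Nat.card_sum, Nat.card_congr Equiv.subtypeSum, Nat.card_sum,
    Nat.card_congr Equiv.subtypeSum, Nat.card_sum, Nat.card_congr Equiv.subtypeSum, Nat.card_sum,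
    (card_good_part _ ℓ _ d1 :), (card_good_part _ ℓ _ d2 :), (card_good_part _ ℓ _ d3 :), (card_good_part _ ℓ _ d4 :)]
  rw [(card_good_part _ ℓ _ d5 :), (card_good_part _ ℓ _ d6 :)]
  rw [show Nat.card {χ : Irr // IsPS (χ : SL → ℂ)} = (Fintype.card F - 3) / 2 by omega,
    show Nat.card {χ : Irr // IsCU T (χ : SL → ℂ)} = (Fintype.card F - 1) / 2 by omega]
  simp [Nat.card_eq_fintype_card, add_assoc]

/-- The defining characteristic. -/
theorem mckay_char (hodd : Odd (Fintype.card F)) (p : ℕ) [Fact p.Prime] [CharP F p] (S : Sylow p SL) :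
    good p SL = good p (Subgroup.normalizer ((S : Subgroup SL) : Set SL)) := by
  classical
  have hp : p.Prime := Fact.out
  obtain ⟨n, -, hn⟩ := FiniteField.card F p
  have hpq : p ∣ Fintype.card F := hn ▸ dvd_pow_self p n.ne_zero
  have hp2 : p ≠ 2 := by
    rintro rfl
    have := Nat.odd_iff.1 hodd
    obtain ⟨k, hk⟩ := hpq
    omega
  have hnd : ∀ m, 0 < m → m < p → ¬ p ∣ m := fun m h0 h => Nat.not_dvd_of_pos_of_lt h0 h
  have h3 : 3 ≤ p := by have := hp.two_le; omega
  set U : Subgroup SL := (upperHom (F := F)).range with hU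
  have hUinj : Function.Injective (upperHom (F := F)) := fun s t h => by
    simpa [upperHom] using congrArg (fun g : SL => g.1 0 1) h
  have hUcard : Nat.card U = Fintype.card F := by
    rw [← Nat.card_congr (MonoidHom.ofInjective hUinj).toEquiv, Nat.card_eq_fintype_card,
      Fintype.card_multiplicative]
  haveI hUc : IsMulCommutative U := ⟨⟨by
    rintro ⟨_, s, rfl⟩ ⟨_, t, rfl⟩
    exact Subtype.ext (by simp [← map_mul, mul_comm s t])⟩⟩
  have hUp : IsPGroup p U := IsPGroup.of_card (n := n) (hUcard.trans hn)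
  obtain ⟨P, hP⟩ := hUp.exists_le_sylow
  have hPU : (P : Subgroup SL) = U := by
    refine (Subgroup.eq_of_le_of_card_ge hP (le_of_eq ?_)).symm
    rw [hUcard, Sylow.card_eq_multiplicity, ← card_eq_pow]
  set B := (Cfsg.upperTriangularGL 2 F).comap Matrix.SpecialLinearGroup.toGL with hB
  have hmem : ∀ g : SL, g ∈ B ↔ g.1 1 0 = 0 := fun g => by
    rw [hB, Subgroup.mem_comap, CfsgLib.SL2.GLTwo.mem_borel]; rfl
  have hNU : Subgroup.normalizer (U : Set SL) = B := by
    ext g
    constructor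
    · intro hg
      obtain ⟨t, ht⟩ := (Subgroup.mem_normalizer_iff.1 hg (upperU 1)).1 ⟨Multiplicative.ofAdd 1, rfl⟩
      have h := congrArg (fun m : SL => m.1 1 0) ht
      simp [upperHom, mul10, mul11, inv00, inv10] at h
      rw [hmem]
      have h' : g.1 1 0 * g.1 1 0 = 0 := by linear_combination h
      exact mul_self_eq_zero.1 h'
    · intro hg
      rw [hmem] at hg
      have hle : U.map (MulAut.conj g).toMonoidHom ≤ U := by
        rintro _ ⟨_, ⟨t, rfl⟩, rfl⟩
        refine ⟨Multiplicative.ofAdd (g.1 0 0 ^ 2 * t.toAdd), ?_⟩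
        have hd := det_eq g
        rw [hg, mul_zero, sub_zero] at hd
        apply ext2 <;> simp [upperHom, MulAut.conj_apply, mul00, mul01, mul10, mul11, inv00, inv01, inv10, inv11, hg]
        · linear_combination -hd
        · ring
        · linear_combination -hd
      rw [Subgroup.mem_normalizer_iff_map_conj_eq]
      exact Subgroup.eq_of_le_of_card_ge hle (le_of_eq (Subgroup.card_map_of_injective (MulAut.conj g).injective).symm)
  obtain ⟨g, hg⟩ := MulAction.exists_smul_eq SL P S
  have hS : (S : Subgroup SL) = U.map (MulAut.conj g).toMonoidHom := by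
    rw [← hg, Sylow.coe_subgroup_smul, hPU]; rfl
  have hNS : Subgroup.normalizer ((S : Subgroup SL) : Set SL) = B.map (MulAut.conj g).toMonoidHom := by
    rw [hS, ← hNU]
    exact (Subgroup.map_equiv_normalizer_eq U (MulAut.conj g)).symm
  haveI : IsMulCommutative (S : Subgroup SL) := hS ▸ inferInstance
  haveI : ((S : Subgroup SL).subgroupOf (Subgroup.normalizer ((S : Subgroup SL) : Set SL))).Normal :=
    Subgroup.normal_in_normalizer
  rw [good_eq_classes ((S : Subgroup SL).subgroupOf (Subgroup.normalizer ((S : Subgroup SL) : Set SL))) (fun h =>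
      S.not_dvd_index (h.trans (Subgroup.relIndex_dvd_index_of_le Subgroup.le_normalizer))),
    hNS, ← card_irr, ← Nat.card_congr (Cfsg.Agent.S4444.irrEquiv (B.equivMapOfInjective _ (MulAut.conj g).injective)),
    card_irr, Cfsg.Agent.S2437.result hodd, good_SL hodd]
  have hq := Nat.odd_iff.1 hodd
  have hq2 := Fintype.one_lt_card (α := F)
  have ha : ¬ p ∣ Fintype.card F + 1 := fun h => hnd 1 one_pos (by omega) (by simpa using Nat.dvd_sub h hpq)
  have hb : ¬ p ∣ Fintype.card F - 1 := fun h => hnd 1 one_pos (by omega) (by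
    have := Nat.dvd_sub hpq h
    rwa [Nat.sub_sub_self (by omega)] at this)
  have hc : ¬ p ∣ (Fintype.card F + 1) / 2 := fun h => ha (h.trans (Nat.div_dvd_of_dvd (by omega)))
  have hd : ¬ p ∣ (Fintype.card F - 1) / 2 := fun h => hb (h.trans (Nat.div_dvd_of_dvd (by omega)))
  rw [if_neg (hnd 1 one_pos (by omega)), if_pos hpq, if_neg ha, if_neg hb, if_neg hc, if_neg hd]
  omega

/-- An odd prime different from the characteristic dividing the order. -/
theorem mckay_torus (hodd : Odd (Fintype.card F)) (ℓ : ℕ) [Fact ℓ.Prime] (hℓ2 : ℓ ≠ 2)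
    (hℓF : ¬ ℓ ∣ Fintype.card F) (S : Sylow ℓ SL) (hS : (S : Subgroup SL) ≠ ⊥) :
    good ℓ SL = good ℓ (Subgroup.normalizer ((S : Subgroup SL) : Set SL)) := by
  classical
  have hℓ : ℓ.Prime := Fact.out
  obtain ⟨h2, -⟩ := eps_odd hodd
  obtain ⟨p, hp⟩ := CharP.exists F
  haveI := hp
  haveI : Fact p.Prime := ⟨CharP.char_is_prime F p⟩
  obtain ⟨m, -, hm⟩ := FiniteField.card F p
  have hℓp : ℓ ≠ p := fun h => hℓF (h ▸ hm ▸ dvd_pow_self p m.ne_zero)
  have hp2 : p ≠ 2 := fun h => by
    subst h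
    exact h2 (by exact_mod_cast CharP.cast_eq_zero F 2)
  haveI : Nontrivial (S : Subgroup SL) := (Subgroup.nontrivial_iff_ne_bot _).2 hS
  haveI := S.2.center_nontrivial
  obtain ⟨⟨⟨s, hsS⟩, hsc⟩, hs1⟩ := exists_ne (1 : Subgroup.center (S : Subgroup SL))
  have hs1' : s ≠ 1 := fun h => hs1 (Subtype.ext (Subtype.ext h))
  obtain ⟨a, ha⟩ : ∃ a, s ^ ℓ ^ a = 1 := ⟨_, congrArg Subtype.val (S.2 ⟨s, hsS⟩).choose_spec⟩
  have hcop : (ℓ ^ a).Coprime (2 * p) :=
    Nat.Coprime.pow_left _ (Nat.Coprime.mul_right ((Nat.coprime_primes hℓ Nat.prime_two).2 hℓ2)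
      ((Nat.coprime_primes hℓ Fact.out).2 hℓp))
  have ht : tr s ^ 2 ≠ 4 := by
    intro h
    have h2p : s ^ (2 * p) = 1 := by
      rcases sq_eq_sq_iff_eq_or_eq_neg.1 (h.trans (by norm_num : (4 : F) = 2 ^ 2)) with h' | h'
      · rw [mul_comm, pow_mul, pow_p_of_tr (p := p) h', one_pow]
      · have := pow_p_of_tr (p := p) (g := -s) (by rw [tr_neg, h', neg_neg])
        rw [pow_mul, show s ^ 2 = (-s) ^ 2 by rw [neg_sq], ← pow_mul, mul_comm, pow_mul, this, one_pow]
    have := pow_gcd_eq_one.2 ⟨ha, h2p⟩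
    rw [hcop, pow_one] at this
    exact hs1' this
  have hnc := not_scalar_of_tr_sq_ne ht
  set T := Subgroup.centralizer ({s} : Set SL) with hT
  have hST : (S : Subgroup SL) ≤ T := fun y hy => Subgroup.mem_centralizer_singleton_iff.2
    (congrArg Subtype.val (Subgroup.mem_center_iff.1 hsc ⟨y, hy⟩))
  have hNN : Subgroup.normalizer ((S : Subgroup SL) : Set SL) = Subgroup.normalizer (T : Set SL) := by
    ext g
    rw [mem_normalizer_iff_tori ht hST hsS hnc, hT, mem_normalizer_centralizer_iff ht]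
  have hTN : T ≤ Subgroup.normalizer (T : Set SL) := Subgroup.le_normalizer
  haveI hTc : IsMulCommutative T := ⟨⟨fun x y => Subtype.ext (centralizer_comm hnc
    (Subgroup.mem_centralizer_singleton_iff.1 x.2) (Subgroup.mem_centralizer_singleton_iff.1 y.2))⟩⟩
  haveI : (T.subgroupOf (Subgroup.normalizer (T : Set SL))).Normal := Subgroup.normal_in_normalizer
  have hidx : (T.subgroupOf (Subgroup.normalizer (T : Set SL))).index = 2 := by
    have h := Subgroup.index_mul_card (T.subgroupOf (Subgroup.normalizer (T : Set SL)))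
    rw [Nat.card_congr (Subgroup.subgroupOfEquivOfLe hTN).toEquiv, card_normalizer_centralizer ht] at h
    exact Nat.eq_of_mul_eq_mul_right Nat.card_pos h
  have hℓT : ℓ ∣ Nat.card T := by
    obtain ⟨k, hk⟩ := S.2.exists_card_eq
    have : k ≠ 0 := fun h0 => hS (Subgroup.card_eq_one.1 (by rw [hk, h0, pow_zero]))
    exact (hk ▸ dvd_pow_self ℓ this).trans (Subgroup.card_dvd_of_le hST)
  rw [hNN, good_eq_classes (T.subgroupOf (Subgroup.normalizer (T : Set SL))) (by
      rw [hidx]; exact fun h => hℓ2 ((Nat.prime_dvd_prime_iff_eq hℓ Nat.prime_two).1 h)), good_SL hodd]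
  have hcl := card_conjClasses_normalizer h2 ht
  have hcard : Nat.card T = Fintype.card F - 1 ∨ Nat.card T = Fintype.card F + 1 := by
    by_cases h : ∃ r : F, r * r - tr s * r + 1 = 0
    · obtain ⟨r, hr⟩ := h
      exact Or.inl (by rw [hT, card_centralizer_split ht hr, Nat.card_eq_fintype_card])
    · push Not at h
      exact Or.inr (by rw [hT, card_centralizer_elliptic h, Nat.card_eq_fintype_card])
  have hq := Nat.odd_iff.1 hodd
  have hq2 := Fintype.one_lt_card (α := F)
  have h1 : ¬ ℓ ∣ 1 := hℓ.not_dvd_one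
  have hhalf : ∀ x : ℕ, x % 2 = 0 → (ℓ ∣ x / 2 ↔ ℓ ∣ x) := by
    intro x hx
    obtain ⟨y, rfl⟩ : 2 ∣ x := by omega
    rw [Nat.mul_div_cancel_left y two_pos]
    exact ⟨fun h => h.mul_left 2, fun h => (hℓ.dvd_mul.1 h).resolve_left fun h' =>
      hℓ2 ((Nat.prime_dvd_prime_iff_eq hℓ Nat.prime_two).1 h')⟩
  have hexcl : ¬ (ℓ ∣ Fintype.card F - 1 ∧ ℓ ∣ Fintype.card F + 1) := by
    rintro ⟨ha, hb⟩
    have := Nat.dvd_sub hb ha
    rw [show Fintype.card F + 1 - (Fintype.card F - 1) = 2 by omega] at this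
    exact hℓ2 ((Nat.prime_dvd_prime_iff_eq hℓ Nat.prime_two).1 this)
  rw [hT] at hcard hℓT
  rw [if_neg h1, if_neg hℓF]
  simp only [hhalf _ (show (Fintype.card F + 1) % 2 = 0 by omega),
    hhalf _ (show (Fintype.card F - 1) % 2 = 0 by omega)]
  rcases hcard with hc | hc
  · rw [hc] at hℓT hcl
    rw [if_pos hℓT, if_pos hℓT, if_neg fun h => hexcl ⟨hℓT, h⟩, if_neg fun h => hexcl ⟨hℓT, h⟩, hT]
    omega
  · rw [hc] at hℓT hcl
    rw [if_pos hℓT, if_pos hℓT, if_neg fun h => hexcl ⟨h, hℓT⟩, if_neg fun h => hexcl ⟨h, hℓT⟩, hT]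
    omega

/-- The prime two. -/
theorem mckay_two (hodd : Odd (Fintype.card F)) (S : Sylow 2 SL) :
    good 2 SL = good 2 (Subgroup.normalizer ((S : Subgroup SL) : Set SL)) := by
  classical
  haveI : Fact (Nat.Prime 2) := ⟨Nat.prime_two⟩
  obtain ⟨h2, -⟩ := eps_odd hodd
  obtain ⟨Sd, hSd⟩ : ∃ Sd, Sd = (S : Subgroup SL) := ⟨_, rfl⟩
  obtain ⟨d⟩ := hSd ▸ exists_sylowTwoData (by rwa [Nat.card_eq_fintype_card]) S
  have hq := Nat.odd_iff.1 hodd
  have hq2 := Fintype.one_lt_card (α := F)
  have hSL : good 2 SL = 4 := by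
    rw [good_SL hodd]
    simp only [Nat.dvd_iff_mod_eq_zero]
    rw [if_neg (by omega), if_neg (by omega), if_pos (by omega), if_pos (by omega)]
    by_cases h : (Fintype.card F + 1) / 2 % 2 = 0
    · rw [if_pos h, if_neg (by omega)]
    · rw [if_neg h, if_pos (by omega)]
  rw [hSL]
  rw [← hSd]
  have hcardS : Nat.card Sd = 4 * 2 ^ d.k := by
    obtain ⟨e⟩ := d.quat
    rw [Nat.card_congr e.toEquiv, Nat.card_eq_fintype_card, QuaternionGroup.card]
  by_cases hk : d.k = 1
  · set N := Subgroup.normalizer (Sd : Set SL) with hN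
    have hNc : Nat.card N = 24 := by rw [hN, d.card_normalizer S hSd.symm h2 hk, hcardS, hk]; norm_num
    have hA2 : d.A * d.A = -1 := by
      have h4 : d.A ^ 4 = 1 := by
        have := pow_orderOf_eq_one d.A; rwa [d.orderOf_A, hk] at this
      have h1 : (d.A * d.A) * (d.A * d.A) = 1 := by
        rw [← h4, pow_succ, pow_succ, pow_two, mul_assoc, mul_assoc, mul_assoc]
      refine ((mem_center_iff _).mp ((isCentral_sq h2).mp h1)).resolve_left (fun h => ?_)
      exact d.A_not_center h2 ((isCentral_sq h2).mp h)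
    have hwA : d.w * d.A = -(d.A * d.w) := by
      have h := inverting_all d.tr_sq_ne d.inverting d.mem_centralizer
      rw [mul_inv_eq_iff_eq_mul, inv_eq_of_mul_eq_one_right (show d.A * -d.A = 1 by rw [mul_neg, hA2, neg_neg]),
        neg_mul] at h
      exact h
    obtain ⟨g, -, hgi, hgj⟩ := exists_cyclic_permuter h2 hA2 (inverting_sq h2 d.tr_sq_ne d.inverting) hwA
    have hgA : g⁻¹ * d.A * g = d.w := by rw [mul_assoc, hgi, inv_mul_cancel_left]
    have hgw : g⁻¹ * d.w * g = d.A * d.w := by rw [mul_assoc, hgj, inv_mul_cancel_left]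
    have hgN : g⁻¹ ∈ N := by
      have hle : Sd.map (MulAut.conj g⁻¹).toMonoidHom ≤ Sd := by
        rw [Subgroup.map_le_iff_le_comap]
        intro x hx
        have hA : d.A ∈ Sd.comap (MulAut.conj g⁻¹).toMonoidHom := by
          rw [Subgroup.mem_comap]; simp [hgA, d.w_mem]
        have hw : d.w ∈ Sd.comap (MulAut.conj g⁻¹).toMonoidHom := by
          rw [Subgroup.mem_comap]; simp [hgw, mul_mem d.A_mem d.w_mem]
        obtain ⟨i, rfl | rfl⟩ := d.mem_cases x hx
        · exact pow_mem hA i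
        · exact mul_mem hw (pow_mem hA i)
      rw [hN, Subgroup.mem_normalizer_iff_map_conj_eq]
      exact Subgroup.eq_of_le_of_card_ge hle (le_of_eq (Subgroup.card_map_of_injective (MulAut.conj g⁻¹).injective).symm)
    have hSN : Sd ≤ N := Subgroup.le_normalizer
    haveI : (Sd.subgroupOf N).Normal := Subgroup.normal_in_normalizer
    have hidx : (Sd.subgroupOf N).index = 3 := by
      have h := Subgroup.index_mul_card (Sd.subgroupOf N)
      rw [Nat.card_congr (Subgroup.subgroupOfEquivOfLe hSN).toEquiv, hNc, hcardS, hk] at h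
      omega
    haveI : Fact (Nat.Prime 3) := ⟨Nat.prime_three⟩
    have hcomm : commutator N = Sd.subgroupOf N := by
      refine le_antisymm ?_ ?_
      · haveI : IsCyclic (N ⧸ Sd.subgroupOf N) := isCyclic_of_prime_card (p := 3) (by rw [← Subgroup.index_eq_card, hidx])
        letI := IsCyclic.commGroup (α := N ⧸ Sd.subgroupOf N)
        have h := Abelianization.commutator_subset_ker (QuotientGroup.mk' (Sd.subgroupOf N))
        rwa [QuotientGroup.ker_mk'] at h
      · have hAN : d.A ∈ N := hSN d.A_mem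
        have hwN : d.w ∈ N := hSN d.w_mem
        set C' := (commutator N).map N.subtype with hC'
        have hcm : ∀ a ∈ N, ∀ b ∈ N, a * b * a⁻¹ * b⁻¹ ∈ C' := fun a ha b hb =>
          ⟨⁅(⟨a, ha⟩ : N), ⟨b, hb⟩⁆, Subgroup.commutator_mem_commutator (Subgroup.mem_top _) (Subgroup.mem_top _),
            by simp [commutatorElement_def]⟩
        have h1 : d.w * d.A⁻¹ ∈ C' := by
          have := hcm _ hgN _ hAN
          rwa [inv_inv, hgA] at this
        have h2' : d.A ∈ C' := by
          have := hcm _ hgN _ hwN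
          rwa [inv_inv, hgw, mul_inv_cancel_right] at this
        have h3 : d.w ∈ C' := by simpa using mul_mem h1 h2'
        intro x hx
        have hxC : (x : SL) ∈ C' := by
          obtain ⟨i, h | h⟩ := d.mem_cases _ hx
          · rw [show (x : SL) = d.A ^ i from h]; exact pow_mem h2' i
          · rw [show (x : SL) = d.w * d.A ^ i from h]; exact mul_mem h3 (pow_mem h2' i)
        obtain ⟨y, hy, hyx⟩ := hxC
        exact (Subtype.ext hyx : y = x) ▸ hy
    rw [good_twentyfour hNc (by rw [hcomm, hidx])]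
  · have hk2 : 2 ≤ d.k := by have := d.k_pos; omega
    rw [d.normalizer_eq h2 hk2, good_two_group (hSd ▸ S.2)]
    have hwA : d.w * d.A * d.w⁻¹ = d.A⁻¹ := inverting_all d.tr_sq_ne d.inverting d.mem_centralizer
    set A : Sd := ⟨d.A, d.A_mem⟩ with hA
    set w : Sd := ⟨d.w, d.w_mem⟩ with hw
    set K := Subgroup.zpowers (A ^ 2) with hK
    have hordA : orderOf A = 2 ^ (d.k + 1) := by rw [hA, ← Subgroup.orderOf_coe]; exact d.orderOf_A
    have hKc : Nat.card K = 2 ^ d.k := by
      rw [hK, Nat.card_zpowers, orderOf_pow, hordA, pow_succ, Nat.gcd_eq_right (Dvd.intro_left _ rfl),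
        Nat.mul_div_cancel _ two_pos]
    have hKle : K ≤ commutator Sd := by
      rw [hK, Subgroup.zpowers_le]
      have : ⁅w, A⁆ = (A ^ 2)⁻¹ := by
        rw [commutatorElement_def, show w * A * w⁻¹ = A⁻¹ from Subtype.ext hwA, pow_two, _root_.mul_inv_rev]
      rw [← inv_inv (A ^ 2), ← this]
      exact inv_mem (Subgroup.commutator_mem_commutator (Subgroup.mem_top _) (Subgroup.mem_top _))
    haveI hKn : K.Normal := by
      rw [← Subgroup.normalizer_eq_top_iff, eq_top_iff]
      have hwn : w ∈ Subgroup.normalizer (K : Set Sd) := by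
        rw [Subgroup.mem_normalizer_iff_map_conj_eq, hK, MonoidHom.map_zpowers]
        show Subgroup.zpowers (w * A ^ 2 * w⁻¹) = _
        rw [← conj_pow, show w * A * w⁻¹ = A⁻¹ from Subtype.ext hwA, inv_pow, Subgroup.zpowers_inv]
      have hAn : A ∈ Subgroup.normalizer (K : Set Sd) := by
        rw [Subgroup.mem_normalizer_iff_map_conj_eq, hK, MonoidHom.map_zpowers]
        show Subgroup.zpowers (A * A ^ 2 * A⁻¹) = _
        rw [← conj_pow, mul_inv_cancel_right]
      rintro x -
      obtain ⟨i, h | h⟩ := d.mem_cases _ x.2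
      · rw [show x = A ^ i from Subtype.ext (by simpa using h)]
        exact pow_mem hAn i
      · rw [show x = w * A ^ i from Subtype.ext (by simpa using h)]
        exact mul_mem hwn (pow_mem hAn i)
    have hKidx : K.index = 4 := by
      have h := Subgroup.index_mul_card K
      rw [hKc, hcardS] at h
      exact Nat.eq_of_mul_eq_mul_right (Nat.pos_of_ne_zero (by simp)) h
    have hcle : commutator Sd ≤ K := by
      haveI := IsPGroup.isMulCommutative_of_card_eq_prime_sq (p := 2) (G := Sd ⧸ K) (by rw [← Subgroup.index_eq_card, hKidx]; norm_num)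
      letI : CommGroup (Sd ⧸ K) := { (inferInstance : Group (Sd ⧸ K)) with mul_comm := fun a b => Std.Commutative.comm a b }
      have h := Abelianization.commutator_subset_ker (QuotientGroup.mk' K)
      rwa [QuotientGroup.ker_mk'] at h
    rw [le_antisymm hcle hKle, hKidx]

/-- The McKay equality for `SL₂(q)`, `q` odd. -/
theorem mckay (hodd : Odd (Fintype.card F)) (ℓ : ℕ) [hℓ : Fact ℓ.Prime] (S : Sylow ℓ SL) :
    good ℓ SL = good ℓ (Subgroup.normalizer ((S : Subgroup SL) : Set SL)) := by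
  by_cases h2 : ℓ = 2
  · subst h2; exact mckay_two hodd S
  by_cases hF : ℓ ∣ Fintype.card F
  · obtain ⟨p, hp⟩ := CharP.exists F
    haveI := hp
    have hpp := CharP.char_is_prime F p
    haveI : Fact p.Prime := ⟨hpp⟩
    obtain ⟨n, -, hn⟩ := FiniteField.card F p
    obtain rfl : ℓ = p := (Nat.prime_dvd_prime_iff_eq hℓ.out hpp).1 (hℓ.out.dvd_of_dvd_pow (hn ▸ hF))
    exact mckay_char hodd ℓ S
  by_cases hS : (S : Subgroup SL) = ⊥
  · have hN : Subgroup.normalizer ((S : Subgroup SL) : Set SL) = ⊤ := by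
      rw [hS]; exact Subgroup.normalizer_eq_top_iff.2 Subgroup.normal_bot
    rw [hN]
    have e : ↥(⊤ : Subgroup (SpecialLinearGroup (Fin 2) F)) ≃* SpecialLinearGroup (Fin 2) F := Subgroup.topEquiv
    exact (good_congr e ℓ).symm
  exact mckay_torus hodd ℓ h2 hF S hS

end Special

end CfsgLib.SL2Char.McKay
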