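import Cfsg.Agent.SL2Char.Degrees
import Cfsg.Agent.CharBasics.Extra
import Cfsg.Prelude.Def_DegreeGraph

/-!
Degrees and degree graphs of `SL₂(q)` and `PSL₂(q)`.
-/

set_option autoImplicit false
set_option linter.unusedSectionVars false

namespace CfsgLib.SL2Char

open Matrix CfsgLib.CharBasics

variable {F : Type*} [Field F] [Fintype F] [DecidableEq F]

local notation "SL" => SpecialLinearGroup (Fin 2) F
local notation "Z" => Subgroup.center (SpecialLinearGroup (Fin 2) F)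

theorem charDegrees_subset_of_surjective {G H : Type*} [Group G] [Group H] [Finite G] [Finite H] (f : G →* H)
    (hf : Function.Surjective f) : Cfsg.charDegrees H ⊆ Cfsg.charDegrees G := by
  rintro d ⟨χ, rfl⟩
  refine ⟨⟨_, irr_comp_of_surjective χ.2 f hf⟩, ?_⟩
  simp [Cfsg.charDegree]

/-- `q`, `q + 1`, `q - 1` are degrees of characters of `SL₂(q)` trivial at the centre. -/
theorem exists_central_trivial (h4 : 4 ≤ Fintype.card F) (h5 : Fintype.card F ≠ 5) :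
    ∀ d : ℕ, d = Fintype.card F ∨ d = Fintype.card F + 1 ∨ d = Fintype.card F - 1 →
      ∃ χ : Cfsg.IrrCharacter SL, (χ : SL → ℂ) 1 = (d : ℂ) ∧ ∀ z ∈ Z, (χ : SL → ℂ) z = (χ : SL → ℂ) 1 := by
  classical
  obtain ⟨C, T⟩ := exists_torus (F := F)
  intro d hd
  rcases hd with rfl | rfl | rfl
  · refine ⟨⟨St, isIrr_St⟩, St_one, fun z hz => ?_⟩
    obtain ⟨h1, h2, h3, h0, -⟩ := center_eq hz
    show St z = St 1
    simp [St, Rf_scalar 1 z h2 h1 h3, Rf_one, MulChar.one_apply (IsUnit.of_mul_eq_one _ h0)]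
  · have hn : 0 < Fintype.card F - 1 := by omega
    obtain ⟨β, hβ⟩ := MulChar.exists_mulChar_orderOf F (dvd_refl (Fintype.card F - 1))
      (Complex.isPrimitiveRoot_exp _ hn.ne')
    have hα : (β ^ 2) ^ 2 ≠ 1 := by
      rw [← pow_mul]; intro h
      have h' := orderOf_dvd_of_pow_eq_one h
      rw [hβ] at h'
      have := Nat.le_of_dvd (by norm_num) h'
      rw [show Fintype.card F - 1 = 3 by omega] at h'
      norm_num at h'
    refine ⟨⟨Rf (β ^ 2), isIrr_Rf hα⟩, by simp [Rf_one], fun z hz => ?_⟩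
    obtain ⟨h1, h2, h3, h0, -⟩ := center_eq hz
    show Rf (β ^ 2) z = Rf (β ^ 2) 1
    rw [Rf_scalar _ z h2 h1 h3, Rf_one, MulChar.pow_apply' _ two_ne_zero, sq, ← map_mul, h0, map_one, mul_one]
  · haveI := T.cyclic
    obtain ⟨g, hg⟩ := IsCyclic.exists_generator (α := C)
    have hn : (Fintype.card F + 1) ≠ 0 := by omega
    have hζ := Complex.isPrimitiveRoot_exp _ hn
    set ζ : ℂˣ := (hζ.isUnit hn).unit
    have hζu : IsPrimitiveRoot ζ (Fintype.card F + 1) := hζ.isUnit_unit hn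
    have hord : orderOf ζ ∣ orderOf g := by
      rw [orderOf_eq_card_of_forall_mem_zpowers hg, T.card, ← hζu.eq_orderOf]
    set ψ : C →* ℂˣ := monoidHomOfForallMemZpowers hg hord with hψ
    have hθ : (ψ ^ 2) ^ 2 ≠ 1 := by
      rw [← pow_mul]; intro h
      have h' : ζ ^ (2 * 2) = 1 := by
        have := DFunLike.congr_fun h g
        rwa [MonoidHom.pow_apply, hψ, monoidHomOfForallMemZpowers_apply_gen, MonoidHom.one_apply] at this
      have h'' := (hζu.pow_eq_one_iff_dvd _).1 h'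
      have := Nat.le_of_dvd (by norm_num) h''
      omega
    refine ⟨⟨_, isIrr_ff T (T.al_compat (ψ ^ 2)) hθ⟩, ?_, fun z hz => ?_⟩
    · show ff _ _ (1 : SL) = _
      rw [ff_unit T, Nat.cast_sub (by omega), Nat.cast_one]
    · show ff _ _ z = ff _ _ (1 : SL)
      have hsq : (⟨z, T.center_le hz⟩ : C) ^ 2 = 1 := by
        obtain ⟨-, -, -, -, hi⟩ := center_eq hz
        apply Subtype.ext
        show z ^ 2 = 1
        rw [sq]
        exact inv_eq_iff_mul_eq_one.mp hi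
      rw [show z = ((⟨z, T.center_le hz⟩ : C) : SL) from rfl, ff_central T (T.al_compat _) hz, ff_unit T,
        MonoidHom.pow_apply, ← map_pow, hsq, map_one, Units.val_one, mul_one]

/-- The possible degrees. -/
theorem charDegree_cases (χ : Cfsg.IrrCharacter SL) :
    Cfsg.charDegree (χ : SL → ℂ) = 1 ∨ Cfsg.charDegree (χ : SL → ℂ) = Fintype.card F ∨
      Cfsg.charDegree (χ : SL → ℂ) ∣ Fintype.card F + 1 ∨ Cfsg.charDegree (χ : SL → ℂ) ∣ Fintype.card F - 1 := by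
  obtain ⟨C, T⟩ := exists_torus (F := F)
  have hd : ∀ n : ℕ, (χ : SL → ℂ) 1 = (n : ℂ) → Cfsg.charDegree (χ : SL → ℂ) = n := fun n h => by
    rw [apply_one (isCharacter_of_irr χ.2)] at h
    exact_mod_cast h
  by_cases hodd : Odd (Fintype.card F)
  · obtain ⟨O⟩ := nonempty_oddTable hodd T
    obtain ⟨k, hk⟩ := hodd
    rcases O.cases χ with ⟨-, h⟩ | ⟨-, h⟩ | ⟨-, h⟩ | ⟨-, h⟩ | ⟨-, h⟩ | ⟨-, h⟩ <;> rw [hd _ h]
    · exact Or.inl rfl
    · exact Or.inr (Or.inl rfl)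
    · exact Or.inr (Or.inr (Or.inl dvd_rfl))
    · exact Or.inr (Or.inr (Or.inr dvd_rfl))
    · exact Or.inr (Or.inr (Or.inl ⟨2, by omega⟩))
    · exact Or.inr (Or.inr (Or.inr ⟨2, by omega⟩))
  · haveI := charP_two_of_not_odd hodd
    rcases deg_even T χ with ⟨-, h⟩ | ⟨-, h⟩ | ⟨-, h⟩ | ⟨-, h⟩ <;> rw [hd _ h]
    · exact Or.inl rfl
    · exact Or.inr (Or.inl rfl)
    · exact Or.inr (Or.inr (Or.inl dvd_rfl))
    · exact Or.inr (Or.inr (Or.inr dvd_rfl))

/-- The degree graph of `SL₂(q)` and `PSL₂(q)`. -/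
theorem degree_graph (h4 : 4 ≤ Fintype.card F) (h5 : Fintype.card F ≠ 5) {S : Type*} [Group S] [Finite S]
    (hS : Nonempty (S ≃* ProjectiveSpecialLinearGroup (Fin 2) F) ∨ Nonempty (S ≃* SL)) :
    Cfsg.degreePrimes S = {r : ℕ | r.Prime ∧ r ∣ Fintype.card F * (Fintype.card F ^ 2 - 1)} ∧
      ∀ r s : ℕ, (Cfsg.degreeGraph S).Adj r s ↔ r ≠ s ∧ r.Prime ∧ s.Prime ∧
        ((r ∣ Fintype.card F + 1 ∧ s ∣ Fintype.card F + 1) ∨ (r ∣ Fintype.card F - 1 ∧ s ∣ Fintype.card F - 1)) := by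
  classical
  set q := Fintype.card F with hq
  haveI : Finite (ProjectiveSpecialLinearGroup (Fin 2) F) := inferInstanceAs (Finite (SL ⧸ Z))
  have hsurj : Function.Surjective (QuotientGroup.mk' Z) := QuotientGroup.mk'_surjective _
  have hup : ∀ e ∈ Cfsg.charDegrees S, e = 1 ∨ e = q ∨ e ∣ q + 1 ∨ e ∣ q - 1 := by
    intro e he
    have hmem : e ∈ Cfsg.charDegrees SL := by
      rcases hS with hf | hf <;> obtain ⟨f⟩ := hf
      · exact charDegrees_subset_of_surjective (f.symm.toMonoidHom.comp (QuotientGroup.mk' Z))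
          (f.symm.surjective.comp hsurj) he
      · exact charDegrees_subset_of_surjective f.symm.toMonoidHom f.symm.surjective he
    obtain ⟨χ, rfl⟩ := hmem
    exact charDegree_cases χ
  have hlow : ∀ d, d = q ∨ d = q + 1 ∨ d = q - 1 → d ∈ Cfsg.charDegrees S := by
    intro d hd
    obtain ⟨χ, h1, hz⟩ := exists_central_trivial h4 h5 d hd
    rcases hS with hf | hf <;> obtain ⟨f⟩ := hf
    · obtain ⟨ψ, hψ⟩ := exists_quotient_irr χ Z hz
      refine charDegrees_subset_of_surjective f.toMonoidHom f.surjective ⟨ψ, ?_⟩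
      rw [Cfsg.charDegree, show (1 : ProjectiveSpecialLinearGroup (Fin 2) F) = QuotientGroup.mk (1 : SL) from rfl,
        hψ, h1, Complex.natCast_re, Nat.floor_natCast]
    · exact charDegrees_subset_of_surjective f.toMonoidHom f.surjective
        ⟨χ, by rw [Cfsg.charDegree, h1, Complex.natCast_re, Nat.floor_natCast]⟩
  obtain ⟨⟨n, hn⟩, p, hp, hpow⟩ : (∃ n, q ^ 2 - 1 = n) ∧ ∃ p, p.Prime ∧ ∃ k, q = p ^ k := by
    refine ⟨⟨_, rfl⟩, ?_⟩
    obtain ⟨p, _⟩ := CharP.exists F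
    obtain ⟨k, hp, hk⟩ := FiniteField.card F p
    exact ⟨p, hp, k, hk⟩
  obtain ⟨k, hk⟩ := hpow
  have hfac : q ^ 2 - 1 = (q + 1) * (q - 1) := by rw [← Nat.sq_sub_sq]
  refine ⟨Set.ext fun r => ⟨?_, ?_⟩, fun r s => ⟨?_, ?_⟩⟩
  · rintro ⟨hr, e, he, hre⟩
    refine ⟨hr, ?_⟩
    rcases hup e he with rfl | rfl | h | h
    · exact absurd hre hr.not_dvd_one
    · exact dvd_mul_of_dvd_left hre _
    · exact dvd_mul_of_dvd_right (hfac ▸ dvd_mul_of_dvd_left (hre.trans h) _) _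
    · exact dvd_mul_of_dvd_right (hfac ▸ dvd_mul_of_dvd_right (hre.trans h) _) _
  · rintro ⟨hr, h⟩
    refine ⟨hr, ?_⟩
    rw [hfac] at h
    rcases hr.dvd_mul.1 h with h | h
    · exact ⟨q, hlow q (Or.inl rfl), h⟩
    rcases hr.dvd_mul.1 h with h | h
    · exact ⟨_, hlow _ (Or.inr (Or.inl rfl)), h⟩
    · exact ⟨_, hlow _ (Or.inr (Or.inr rfl)), h⟩
  · rintro ⟨hne, hr, hs, e, he, hrs⟩
    refine ⟨hne, hr, hs, ?_⟩
    rcases hup e he with rfl | rfl | h | h
    · exact absurd ((dvd_mul_right r s).trans hrs) hr.not_dvd_one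
    · rw [hk] at hrs
      exact absurd (((Nat.prime_dvd_prime_iff_eq hr hp).1 (hr.dvd_of_dvd_pow ((dvd_mul_right r s).trans hrs))).trans
        ((Nat.prime_dvd_prime_iff_eq hs hp).1 (hs.dvd_of_dvd_pow ((dvd_mul_left s r).trans hrs))).symm) hne
    · exact Or.inl ⟨(dvd_mul_right r s).trans (hrs.trans h), (dvd_mul_left s r).trans (hrs.trans h)⟩
    · exact Or.inr ⟨(dvd_mul_right r s).trans (hrs.trans h), (dvd_mul_left s r).trans (hrs.trans h)⟩
  · rintro ⟨hne, hr, hs, h⟩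
    refine ⟨hne, hr, hs, ?_⟩
    rcases h with ⟨h1, h2⟩ | ⟨h1, h2⟩
    · exact ⟨_, hlow _ (Or.inr (Or.inl rfl)), ((Nat.coprime_primes hr hs).2 hne).mul_dvd_of_dvd_of_dvd h1 h2⟩
    · exact ⟨_, hlow _ (Or.inr (Or.inr rfl)), ((Nat.coprime_primes hr hs).2 hne).mul_dvd_of_dvd_of_dvd h1 h2⟩

end CfsgLib.SL2Char
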