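import Cfsg.Agent.SL2Char.Principal
import Cfsg.Agent.SL2.Tori
import Cfsg.Agent.SL2.Basic
import Cfsg.Agent.CharBasics.Central

/-!
The cuspidal class functions of `SL₂` over a finite field attached to the characters of a non-split torus.
-/

set_option autoImplicit false
set_option linter.unusedSectionVars false

namespace CfsgLib.SL2Char

open scoped ComplexConjugate
open Matrix CfsgLib.SL2 CfsgLib.CharBasics CfsgLib.IndFun CfsgLib.PrincipalSeries

variable {F : Type*} [Field F] [Fintype F] [DecidableEq F]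

local notation "Z" => Subgroup.center (SpecialLinearGroup (Fin 2) F)

/-- A cyclic subgroup of order `q + 1`. -/
structure IsTorus (C : Subgroup (SpecialLinearGroup (Fin 2) F)) : Prop where
  cyclic : IsCyclic C
  card : Nat.card C = Fintype.card F + 1

theorem exists_torus : ∃ C : Subgroup (SpecialLinearGroup (Fin 2) F), IsTorus C := by
  obtain ⟨g, hg, -, -⟩ := exists_elliptic_generator F
  exact ⟨Subgroup.zpowers g, inferInstance, by rw [Nat.card_zpowers, hg, Nat.card_eq_fintype_card]⟩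

/-- The centralizer of an element without eigenvalue is a torus. -/
theorem isTorus_centralizer {g : SpecialLinearGroup (Fin 2) F} (h : NoEigen g) :
    IsTorus (Subgroup.centralizer ({g} : Set (SpecialLinearGroup (Fin 2) F))) := by
  refine ⟨isCyclic_centralizer fun ht => ?_, by rw [card_centralizer_elliptic h, Nat.card_eq_fintype_card]⟩
  rcases sq_eq_sq_iff_eq_or_eq_neg.mp (ht.trans (show (4 : F) = 2 ^ 2 by norm_num)) with h2 | h2
  · exact h 1 (by rw [h2]; ring)
  · exact h (-1) (by rw [h2]; ring)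

theorem center_eq {z : SpecialLinearGroup (Fin 2) F} (hz : z ∈ Z) :
    z.1 0 1 = 0 ∧ z.1 1 0 = 0 ∧ z.1 0 0 = z.1 1 1 ∧ z.1 0 0 * z.1 0 0 = 1 ∧ z⁻¹ = z := by
  rcases (mem_center_iff z).mp hz with rfl | rfl
  · simp
  · refine ⟨by simp, by simp, by simp, by simp, inv_eq_of_mul_eq_one_right ?_⟩
    apply ext2 <;> simp [mul00, mul01, mul10, mul11]

theorem center_ext {z w : SpecialLinearGroup (Fin 2) F} (hz : z ∈ Z) (hw : w ∈ Z) (h : z.1 0 0 = w.1 0 0) :
    z = w := by
  obtain ⟨a1, a2, a3, -, -⟩ := center_eq hz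
  obtain ⟨b1, b2, b3, -, -⟩ := center_eq hw
  exact ext2 h (a1.trans b1.symm) (a2.trans b2.symm) (a3.symm.trans (h.trans b3))

theorem center_of_scalar {z : SpecialLinearGroup (Fin 2) F} (h01 : z.1 0 1 = 0) (h10 : z.1 1 0 = 0)
    (h : z.1 0 0 = z.1 1 1) : z ∈ Z :=
  (mem_center_iff z).mpr (eq_one_or_neg_one_of_scalar z h01 h10 h)

variable {C : Subgroup (SpecialLinearGroup (Fin 2) F)}

theorem IsTorus.comm (T : IsTorus C) {a b : SpecialLinearGroup (Fin 2) F} (ha : a ∈ C) (hb : b ∈ C) :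
    a * b = b * a := by
  haveI := T.cyclic
  exact congrArg Subtype.val (IsCyclic.commGroup.mul_comm (⟨a, ha⟩ : C) ⟨b, hb⟩)

theorem IsTorus.center_le (T : IsTorus C) : Z ≤ C := by
  intro z hz
  rcases (mem_center_iff z).mp hz with rfl | rfl
  · exact one_mem _
  by_cases h1 : (-1 : SpecialLinearGroup (Fin 2) F) = 1
  · rw [h1]; exact one_mem _
  have h2 : (2 : F) ≠ 0 := fun h2 => h1 (by
    have e : (-1 : F) = 1 := by linear_combination -h2
    apply ext2 <;> simp [e])
  haveI : Fact (Nat.Prime 2) := ⟨Nat.prime_two⟩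
  have hodd : Fintype.card F % 2 = 1 := FiniteField.odd_card_of_char_ne_two fun hr => h2 (by
    have : CharP F 2 := ringChar.of_eq hr
    exact CharTwo.two_eq_zero)
  obtain ⟨x, hx⟩ := exists_prime_orderOf_dvd_card' (G := C) 2 (by rw [T.card]; omega)
  have hxx : (x : SpecialLinearGroup (Fin 2) F) * x = 1 := by
    have h := pow_orderOf_eq_one x
    rw [hx, pow_two] at h
    exact congrArg Subtype.val h
  have hx1 : (x : SpecialLinearGroup (Fin 2) F) ≠ 1 := fun e => by
    rw [show x = 1 from Subtype.ext e, orderOf_one] at hx; norm_num at hx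
  rcases (mem_center_iff _).mp ((isCentral_sq h2).mp hxx) with e | e
  · exact absurd e hx1
  · rw [← e]; exact x.2

theorem IsTorus.noncentral (T : IsTorus C) {c : SpecialLinearGroup (Fin 2) F} (hc : c ∈ C) (hz : c ∉ Z) :
    NoEigen c ∧ tr c ^ 2 ≠ 4 ∧ Subgroup.centralizer ({c} : Set (SpecialLinearGroup (Fin 2) F)) = C := by
  have hle : C ≤ Subgroup.centralizer ({c} : Set (SpecialLinearGroup (Fin 2) F)) := fun b hb =>
    Subgroup.mem_centralizer_singleton_iff.mpr (T.comm hb hc)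
  have hdvd := Subgroup.card_dvd_of_le hle
  rw [T.card] at hdvd
  have hq := Fintype.one_lt_card (α := F)
  have h4 : tr c ^ 2 ≠ 4 := by
    intro h4
    rw [card_centralizer_unipotent hz (sq_eq_sq_iff_eq_or_eq_neg.mp (h4.trans (by norm_num))),
      Nat.card_eq_fintype_card (α := F)] at hdvd
    have h12 : Nat.card {w : F // w ^ 2 = 1} = 1 ∨ Nat.card {w : F // w ^ 2 = 1} = 2 := by
      by_cases h2 : (2 : F) = 0
      · exact Or.inl (card_sq_eq_one_even h2)
      · exact Or.inr (card_sq_eq_one_odd h2)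
    have hcop : Nat.Coprime (Fintype.card F + 1) (Fintype.card F) := by simp
    have := Nat.le_of_dvd (by omega) (hcop.dvd_of_dvd_mul_right hdvd)
    omega
  have hne : NoEigen c := by
    intro r hr
    obtain ⟨u, -, hu⟩ := SL2.isConj_diagT h4 hr
    have hu2 : ((u : F)) ^ 2 ≠ 1 := fun e => h4 (by
      rw [← tr_eq_of_isConj hu, tr_diagT]
      have hinv : (u : F)⁻¹ = u := inv_eq_of_mul_eq_one_right (by rw [← sq, e])
      rw [hinv]; linear_combination 4 * e)
    have hcard := card_centralizer_eq (g := c) hz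
    rw [card_normSet_split u.ne_zero hu2 (by rw [← tr_eq_of_isConj hu, tr_diagT])] at hcard
    rw [hcard] at hdvd
    have := Nat.le_of_dvd (by rw [Nat.card_eq_fintype_card]; omega) hdvd
    rw [Nat.card_eq_fintype_card] at this
    omega
  refine ⟨hne, h4, (Subgroup.eq_of_le_of_card_ge hle ?_).symm⟩
  rw [T.card, card_centralizer_elliptic hne, Nat.card_eq_fintype_card]

theorem IsTorus.isConj_iff_pair (T : IsTorus C) {c h : SpecialLinearGroup (Fin 2) F} (hc : c ∈ C) (hz : c ∉ Z)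
    (hh : h ∈ C) : IsConj c h ↔ h = c ∨ h = c⁻¹ := by
  obtain ⟨-, h4, -⟩ := T.noncentral hc hz
  constructor
  · intro hcj
    exact eq_or_eq_inv h4 (T.comm hh hc) (tr_eq_of_isConj hcj).symm
  · rintro (rfl | rfl)
    · exact IsConj.refl _
    · exact isConj_of_tr_eq' h4 (tr_inv c).symm

theorem card_index (T : IsTorus C) : C.index = Fintype.card F * (Fintype.card F - 1) := by
  have h := Subgroup.index_mul_card C
  rw [T.card, card_SL2] at h
  refine Nat.eq_of_mul_eq_mul_right (show 0 < Fintype.card F + 1 by omega) (h.trans ?_)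
  rw [mul_assoc, mul_comm (Fintype.card F - 1), ← Nat.sq_sub_sq, one_pow]

/-- The function induced from a character of the torus. -/
noncomputable def If (θ : C →* ℂˣ) : SpecialLinearGroup (Fin 2) F → ℂ :=
  Cfsg.indFun C fun c => ((θ c : ℂˣ) : ℂ)

theorem isCharacter_If (θ : C →* ℂˣ) : Cfsg.IsCharacter (SpecialLinearGroup (Fin 2) F) (If θ) :=
  isCharacter_indFun _ (CfsgLib.Clifford.isCharacter_of_hom ((Units.coeHom ℂ).comp θ))

theorem If_central (T : IsTorus C) (θ : C →* ℂˣ) {z : C} (hz : (z : SpecialLinearGroup (Fin 2) F) ∈ Z) :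
    If θ (z : SpecialLinearGroup (Fin 2) F) =
      (Fintype.card F : ℂ) * ((Fintype.card F : ℂ) - 1) * ((θ z : ℂˣ) : ℂ) := by
  have hx : ∀ x : SpecialLinearGroup (Fin 2) F,
      Cfsg.extendByZero C (fun c => ((θ c : ℂˣ) : ℂ)) (x⁻¹ * (z : SpecialLinearGroup (Fin 2) F) * x) =
        ((θ z : ℂˣ) : ℂ) := by
    intro x
    have e : x⁻¹ * (z : SpecialLinearGroup (Fin 2) F) * x = z := by
      rw [mul_assoc, ← Subgroup.mem_center_iff.mp hz x, inv_mul_cancel_left]
    rw [e, extendByZero_mem _ z.2]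
  rw [If, Cfsg.indFun, Finset.sum_congr rfl (fun x _ => hx x), Finset.sum_const, Finset.card_univ,
    ← Nat.card_eq_fintype_card, ← C.index_mul_card, card_index T, nsmul_eq_mul, Nat.cast_mul, Nat.cast_mul,
    Nat.cast_sub Fintype.card_pos, Nat.cast_one]
  have hC : (Nat.card C : ℂ) ≠ 0 := Nat.cast_ne_zero.2 Nat.card_pos.ne'
  field_simp

theorem If_eq_zero (θ : C →* ℂˣ) {g : SpecialLinearGroup (Fin 2) F} (h : ∀ c ∈ C, ¬ IsConj g c) :
    If θ g = 0 := by
  rw [If, Cfsg.indFun, Finset.sum_eq_zero fun x _ => extendByZero_not_mem _ fun hx => h _ hx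
    (isConj_iff.2 ⟨x⁻¹, by rw [inv_inv]⟩), mul_zero]

theorem If_noncentral (T : IsTorus C) (θ : C →* ℂˣ) {c : C} (hz : (c : SpecialLinearGroup (Fin 2) F) ∉ Z) :
    If θ (c : SpecialLinearGroup (Fin 2) F) = ((θ c : ℂˣ) : ℂ) + ((θ c⁻¹ : ℂˣ) : ℂ) := by
  classical
  obtain ⟨-, h4, hcen⟩ := T.noncentral c.2 hz
  rw [If, indFun_apply_eq, hcen, inv_mul_cancel₀ (Nat.cast_ne_zero.2 Nat.card_pos.ne'), one_mul,
    show {h : C | IsConj (c : SpecialLinearGroup (Fin 2) F) (h : SpecialLinearGroup (Fin 2) F)} = {c, c⁻¹} from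
      Set.ext fun h => by
        rw [Set.mem_ofPred_eq, T.isConj_iff_pair c.2 hz h.2, Set.mem_insert_iff, Set.mem_singleton_iff,
          Subtype.ext_iff, Subtype.ext_iff, Subgroup.coe_inv]]
  exact finsum_mem_pair fun e => ne_inv_of_tr h4 (congrArg Subtype.val e)

/-- The permutation character on the lines, minus two, times a principal series character. -/
noncomputable def Pf (α : MulChar F ℂ) : SpecialLinearGroup (Fin 2) F → ℂ :=
  fun g => (Rf (1 : MulChar F ℂ) g - 2) * Rf α g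

/-- The cuspidal function. -/
noncomputable def ff (α : MulChar F ℂ) (θ : C →* ℂˣ) : SpecialLinearGroup (Fin 2) F → ℂ :=
  Pf α - If θ

theorem Pf_central (α : MulChar F ℂ) {z : SpecialLinearGroup (Fin 2) F} (hz : z ∈ Z) :
    Pf α z = ((Fintype.card F : ℂ) - 1) * ((Fintype.card F : ℂ) + 1) * α (z.1 0 0) := by
  obtain ⟨h1, h2, h3, h4, -⟩ := center_eq hz
  rw [Pf, Rf_scalar α z h2 h1 h3, Rf_scalar 1 z h2 h1 h3, MulChar.one_apply (IsUnit.of_mul_eq_one _ h4)]
  ring

theorem Pf_unipotent (α : MulChar F ℂ) {g : SpecialLinearGroup (Fin 2) F} (h10 : g.1 1 0 = 0)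
    (heq : g.1 0 0 = g.1 1 1) (h01 : g.1 0 1 ≠ 0) : Pf α g = -α (g.1 0 0) := by
  have hd := det_eq g
  rw [h10, mul_zero, sub_zero] at hd
  rw [Pf, Rf_unipotent α g h10 heq h01, Rf_unipotent 1 g h10 heq h01,
    MulChar.one_apply (IsUnit.of_mul_eq_one _ hd)]
  ring

theorem Pf_split (α : MulChar F ℂ) {g : SpecialLinearGroup (Fin 2) F} (h10 : g.1 1 0 = 0)
    (hne : g.1 0 0 ≠ g.1 1 1) : Pf α g = 0 := by
  have hd := det_eq g
  rw [h10, mul_zero, sub_zero] at hd
  rw [Pf, Rf_split 1 g h10 hne, MulChar.one_apply (IsUnit.of_mul_eq_one _ hd),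
    MulChar.one_apply (IsUnit.of_mul_eq_one _ ((mul_comm _ _).trans hd))]
  ring

theorem Pf_elliptic (α : MulChar F ℂ) {g : SpecialLinearGroup (Fin 2) F} (h : NoEigen g) : Pf α g = 0 := by
  rw [Pf, Rf_elliptic α h, mul_zero]

theorem classFun_Pf (α : MulChar F ℂ) : Cfsg.IsClassFunction (SpecialLinearGroup (Fin 2) F) (Pf α) :=
  fun g x => by simp only [Pf, classFun_Rf _ g x]

theorem classFun_ff (α : MulChar F ℂ) (θ : C →* ℂˣ) :
    Cfsg.IsClassFunction (SpecialLinearGroup (Fin 2) F) (ff α θ) :=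
  fun g x => by simp only [ff, Pi.sub_apply, classFun_Pf α g x, isClassFunction (isCharacter_If θ) g x]

/-- Compatibility on the centre. -/
def Compat (α : MulChar F ℂ) (θ : C →* ℂˣ) : Prop :=
  ∀ z : C, (z : SpecialLinearGroup (Fin 2) F) ∈ Z →
    α ((z : SpecialLinearGroup (Fin 2) F).1 0 0) = ((θ z : ℂˣ) : ℂ)

theorem IsTorus.exists_compat (T : IsTorus C) (θ : C →* ℂˣ) : ∃ α : MulChar F ℂ, Compat α θ := by
  let n : C := ⟨-1, T.center_le neg_one_mem_center⟩
  by_cases h : ((θ n : ℂˣ) : ℂ) = 1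
  · refine ⟨1, fun z hz => ?_⟩
    rw [MulChar.one_apply (IsUnit.of_mul_eq_one _ (center_eq hz).2.2.2.1)]
    rcases (mem_center_iff _).mp hz with e | e
    · rw [show z = 1 from Subtype.ext e, map_one, Units.val_one]
    · rw [show z = n from Subtype.ext e, h]
  · have hn1 : (-1 : F) ≠ 1 := fun e => h (by
      have : n = 1 := Subtype.ext (by apply ext2 <;> simp [n, e])
      rw [this, map_one, Units.val_one])
    obtain ⟨α, hα⟩ := MulChar.exists_apply_ne_one_of_hasEnoughRootsOfUnity F ℂ hn1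
    refine ⟨α, fun z hz => ?_⟩
    rcases (mem_center_iff _).mp hz with e | e
    · rw [show z = 1 from Subtype.ext e]; simp
    · rw [show z = n from Subtype.ext e]
      have ha : α (-1 : F) * α (-1 : F) = 1 := by rw [← map_mul]; simp
      have hb : ((θ n : ℂˣ) : ℂ) * ((θ n : ℂˣ) : ℂ) = 1 := by
        rw [← Units.val_mul, ← map_mul, show n * n = 1 from Subtype.ext (by
          simp only [n, Subgroup.coe_mul, Subgroup.coe_one]
          apply ext2 <;> simp [mul00, mul01, mul10, mul11]), map_one, Units.val_one]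
      show α ((-1 : SpecialLinearGroup (Fin 2) F).1 0 0) = _
      rw [show (-1 : SpecialLinearGroup (Fin 2) F).1 0 0 = (-1 : F) by simp]
      rw [(mul_self_eq_one_iff.mp ha).resolve_left hα, (mul_self_eq_one_iff.mp hb).resolve_left h]

theorem conj_central (θ : C →* ℂˣ) {z : C} (hz : (z : SpecialLinearGroup (Fin 2) F) ∈ Z) :
    conj ((θ z : ℂˣ) : ℂ) = ((θ z : ℂˣ) : ℂ) := by
  rw [CfsgLib.Blocks.FpfExc.conj_hom,
    show z⁻¹ = z from Subtype.ext ((Subgroup.coe_inv C z).trans (center_eq hz).2.2.2.2)]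

/-- A sum over the parameters with `p² = 1` as a sum over the centre. -/
theorem sum_sq_one_eq (T : IsTorus C) [Fintype C] (φ : F → ℂ) :
    ∑ p ∈ Finset.univ.filter (fun p : Fˣ => (p : F) = ((p⁻¹ : Fˣ) : F)), φ p =
      ∑ z ∈ Finset.univ.filter (fun z : C => (z : SpecialLinearGroup (Fin 2) F) ∈ Z),
        φ ((z : SpecialLinearGroup (Fin 2) F).1 0 0) := by
  classical
  have hmem : ∀ p : Fˣ, (p : F) = ((p⁻¹ : Fˣ) : F) → bor p (0 : F) ∈ Z := fun p hp =>
    center_of_scalar (by simp [bor]) (by simp [bor]) (by simpa [bor] using hp)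
  refine Finset.sum_bij (fun p hp => (⟨bor p 0, T.center_le (hmem p (Finset.mem_filter.1 hp).2)⟩ : C))
    (fun p hp => Finset.mem_filter.2 ⟨Finset.mem_univ _, hmem p (Finset.mem_filter.1 hp).2⟩)
    (fun p _ q _ h => Units.ext (by
      simpa [bor] using congrArg (fun x : C => (x : SpecialLinearGroup (Fin 2) F).1 0 0) h))
    (fun z hz => ?_) (fun p _ => by simp [bor])
  obtain ⟨h1, h2, h3, h4, -⟩ := center_eq (Finset.mem_filter.1 hz).2
  refine ⟨⟨_, _, h4, h4⟩, Finset.mem_filter.2 ⟨Finset.mem_univ _, rfl⟩, Subtype.ext ?_⟩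
  apply ext2 <;> simp [bor, h1, h2, h3]

/-- Sums over the upper triangular subgroup of functions vanishing at the split elements. -/
theorem sum_bor_eq (T : IsTorus C) [Fintype C] (H : SpecialLinearGroup (Fin 2) F → ℂ) (u v : F → ℂ)
    (w : F → ℂ)
    (hsplit : ∀ (p : Fˣ) (c : F), (p : F) ≠ ((p⁻¹ : Fˣ) : F) → H (bor p c) = 0)
    (hzero : ∀ p : Fˣ, (p : F) = ((p⁻¹ : Fˣ) : F) → H (bor p 0) = u p)
    (hnz : ∀ (p : Fˣ) (c : F), (p : F) = ((p⁻¹ : Fˣ) : F) → c ≠ 0 → H (bor p c) = v p) :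
    ∑ p : Fˣ, ∑ c : F, H (bor p c) * w p =
      ∑ z ∈ Finset.univ.filter (fun z : C => (z : SpecialLinearGroup (Fin 2) F) ∈ Z),
        (u ((z : SpecialLinearGroup (Fin 2) F).1 0 0) +
          ((Fintype.card F : ℂ) - 1) * v ((z : SpecialLinearGroup (Fin 2) F).1 0 0)) *
            w ((z : SpecialLinearGroup (Fin 2) F).1 0 0) := by
  classical
  rw [← sum_sq_one_eq T fun x => (u x + ((Fintype.card F : ℂ) - 1) * v x) * w x, Finset.sum_filter]
  refine Finset.sum_congr rfl fun p _ => ?_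
  split_ifs with hp
  · rw [← Finset.add_sum_erase _ _ (Finset.mem_univ (0 : F)), hzero p hp,
      Finset.sum_congr rfl (fun c hc => by rw [hnz p c hp (Finset.ne_of_mem_erase hc)]), Finset.sum_const,
      Finset.card_erase_of_mem (Finset.mem_univ _), Finset.card_univ, nsmul_eq_mul,
      Nat.cast_sub Fintype.card_pos, Nat.cast_one]
    ring
  · exact Finset.sum_eq_zero fun c _ => by rw [hsplit p c hp, zero_mul]

theorem Pf_bor (α : MulChar F ℂ) :
    (∀ (p : Fˣ) (c : F), (p : F) ≠ ((p⁻¹ : Fˣ) : F) → Pf α (bor p c) = 0) ∧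
    (∀ p : Fˣ, (p : F) = ((p⁻¹ : Fˣ) : F) →
      Pf α (bor p 0) = ((Fintype.card F : ℂ) - 1) * ((Fintype.card F : ℂ) + 1) * α p) ∧
    (∀ (p : Fˣ) (c : F), (p : F) = ((p⁻¹ : Fˣ) : F) → c ≠ 0 → Pf α (bor p c) = -α p) := by
  refine ⟨fun p c hp => Pf_split α (by simp [bor]) (by simpa [bor] using hp), fun p hp => ?_,
    fun p c hp hc => ?_⟩
  · rw [Pf_central α (center_of_scalar (by simp [bor]) (by simp [bor]) (by simpa [bor] using hp))]
    simp [bor]
  · rw [Pf_unipotent α (by simp [bor]) (by simpa [bor] using hp) (by simpa [bor] using hc)]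
    simp [bor]

theorem inner_Pf (T : IsTorus C) [Fintype C] (α β : MulChar F ℂ) :
    Cfsg.classInner (Pf α) (Pf β) = (Fintype.card F : ℂ) *
      ∑ z ∈ Finset.univ.filter (fun z : C => (z : SpecialLinearGroup (Fin 2) F) ∈ Z),
        α ((z : SpecialLinearGroup (Fin 2) F).1 0 0) * conj (β ((z : SpecialLinearGroup (Fin 2) F).1 0 0)) := by
  classical
  set H : SpecialLinearGroup (Fin 2) F → ℂ := fun g => conj (Rf (1 : MulChar F ℂ) g - 2) * Pf α g with hH
  have hHc : Cfsg.IsClassFunction (SpecialLinearGroup (Fin 2) F) H := fun g x => by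
    simp only [hH, classFun_Rf (1 : MulChar F ℂ) g x, classFun_Pf α g x]
  have e : Cfsg.classInner (Pf α) (Pf β) = Cfsg.classInner H (Rf β) := by
    rw [classInner_eq, classInner_eq]
    congr 1
    refine Finset.sum_congr rfl fun g _ => ?_
    rw [hH, show Pf β g = (Rf (1 : MulChar F ℂ) g - 2) * Rf β g from rfl, map_mul]
    ring
  obtain ⟨p1, p2, p3⟩ := Pf_bor α
  rw [e, inner_Rf hHc β, sum_bor_eq T H (fun x => ((Fintype.card F : ℂ) - 1) *
      (((Fintype.card F : ℂ) - 1) * ((Fintype.card F : ℂ) + 1) * α x)) (fun x => α x) (fun x => conj (β x))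
    (fun p c hp => by rw [hH]; simp [p1 p c hp]) ?_ ?_]
  · have h1 : (Fintype.card F : ℂ) - 1 ≠ 0 :=
      sub_ne_zero.2 (by exact_mod_cast (Fintype.one_lt_card (α := F)).ne')
    have h0 : (Fintype.card F : ℂ) ≠ 0 := Nat.cast_ne_zero.2 Fintype.card_ne_zero
    rw [Finset.mul_sum, Finset.mul_sum]
    refine Finset.sum_congr rfl fun z _ => ?_
    field_simp
    ring
  · intro p hp
    have hX : Rf (1 : MulChar F ℂ) (bor p 0) = (Fintype.card F : ℂ) + 1 := by
      rw [Rf_scalar 1 _ (by simp [bor]) (by simp [bor]) (by simpa [bor] using hp)]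
      simp [bor]
    simp only [hH, p2 p hp, hX, map_sub, map_add, map_natCast, map_one, map_ofNat]
    ring
  · intro p c hp hc
    have hX : Rf (1 : MulChar F ℂ) (bor p c) = 1 := by
      rw [Rf_unipotent 1 _ (by simp [bor]) (by simpa [bor] using hp) (by simpa [bor] using hc)]
      simp [bor]
    simp only [hH, p3 p c hp hc, hX, map_sub, map_one, map_ofNat]
    ring

theorem inner_Pf_If (T : IsTorus C) [Fintype C] (α : MulChar F ℂ) (θ : C →* ℂˣ) :
    Cfsg.classInner (Pf α) (If θ) = ((Fintype.card F : ℂ) - 1) *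
      ∑ z ∈ Finset.univ.filter (fun z : C => (z : SpecialLinearGroup (Fin 2) F) ∈ Z),
        α ((z : SpecialLinearGroup (Fin 2) F).1 0 0) * conj ((θ z : ℂˣ) : ℂ) := by
  classical
  rw [If, classInner_indFun' _ _ (classFun_Pf α), classInner_eq, Finset.sum_filter, Finset.mul_sum,
    Finset.mul_sum]
  refine Finset.sum_congr rfl fun z _ => ?_
  have hq : (Fintype.card F : ℂ) + 1 ≠ 0 := Nat.cast_add_one_ne_zero _
  rw [T.card]
  push_cast
  split_ifs with hz
  · rw [Pf_central α hz]; field_simp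
  · rw [Pf_elliptic α (T.noncentral z.2 hz).1]; ring

theorem inner_If (T : IsTorus C) [Fintype C] (θ θ' : C →* ℂˣ) [Decidable (θ = θ')] [Decidable (θ * θ' = 1)] :
    Cfsg.classInner (If θ) (If θ') = ((Fintype.card F : ℂ) - 2) *
      (∑ z ∈ Finset.univ.filter (fun z : C => (z : SpecialLinearGroup (Fin 2) F) ∈ Z),
        ((θ z : ℂˣ) : ℂ) * conj ((θ' z : ℂˣ) : ℂ)) + ((if θ = θ' then 1 else 0) + if θ * θ' = 1 then 1 else 0) := by
  classical
  set q : ℂ := (Fintype.card F : ℂ) with hqdef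
  have hterm : ∀ c : C, ((θ c : ℂˣ) : ℂ) * conj (If θ' (c : SpecialLinearGroup (Fin 2) F)) =
      ((θ c : ℂˣ) : ℂ) * conj ((θ' c : ℂˣ) : ℂ) + ((θ c : ℂˣ) : ℂ) * ((θ' c : ℂˣ) : ℂ) +
        if (c : SpecialLinearGroup (Fin 2) F) ∈ Z
          then (q * (q - 1) - 2) * (((θ c : ℂˣ) : ℂ) * conj ((θ' c : ℂˣ) : ℂ)) else 0 := by
    intro c
    split_ifs with hc
    · rw [If_central T θ' hc, map_mul, map_mul, map_sub, map_one, map_natCast, conj_central θ' hc, ← hqdef]
      ring
    · rw [If_noncentral T θ' hc, map_add, CfsgLib.Blocks.FpfExc.conj_hom θ' c⁻¹, inv_inv]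
      ring
  have hd : ∀ ψ : C →* ℂˣ, ∑ c : C, ((ψ c : ℂˣ) : ℂ) = if ψ = 1 then (Fintype.card F : ℂ) + 1 else 0 :=
    fun ψ => by
    rw [CfsgLib.Blocks.FpfExc.sum_hom, T.card]
    push_cast
    rfl
  have s1 : ∑ c : C, ((θ c : ℂˣ) : ℂ) * conj ((θ' c : ℂˣ) : ℂ) = if θ = θ' then q + 1 else 0 := by
    have := hd (θ * θ'⁻¹)
    simp only [MonoidHom.mul_apply, MonoidHom.inv_apply, Units.val_mul] at this
    have hiff : θ = θ' ↔ θ * θ'⁻¹ = 1 :=
      ⟨fun e => by subst e; exact MonoidHom.ext fun c => mul_inv_cancel _,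
        fun e => MonoidHom.ext fun c => mul_inv_eq_one.mp (DFunLike.congr_fun e c)⟩
    rw [if_congr hiff rfl rfl, ← this]
    refine Finset.sum_congr rfl fun c _ => ?_
    rw [CfsgLib.Blocks.FpfExc.conj_hom, map_inv]
  have s2 : ∑ c : C, ((θ c : ℂˣ) : ℂ) * ((θ' c : ℂˣ) : ℂ) = if θ * θ' = 1 then q + 1 else 0 := by
    have := hd (θ * θ')
    simp only [MonoidHom.mul_apply, Units.val_mul] at this
    convert this using 2
  show Cfsg.classInner (Cfsg.indFun C fun c => ((θ c : ℂˣ) : ℂ)) (If θ') = _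
  rw [classInner_indFun _ _ (isClassFunction (isCharacter_If θ')), classInner_eq,
    Finset.sum_congr rfl fun c _ => hterm c, Finset.sum_add_distrib, Finset.sum_add_distrib, s1, s2,
    ← Finset.sum_filter, ← Finset.mul_sum, T.card]
  have hq : q + 1 ≠ 0 := Nat.cast_add_one_ne_zero _
  push_cast
  rw [← hqdef]
  split_ifs <;> field_simp <;> ring

theorem inner_ff (T : IsTorus C) {α α' : MulChar F ℂ} {θ θ' : C →* ℂˣ} (h : Compat α θ) (h' : Compat α' θ')
    [Decidable (θ = θ')] [Decidable (θ * θ' = 1)] :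
    Cfsg.classInner (ff α θ) (ff α' θ') = (if θ = θ' then 1 else 0) + if θ * θ' = 1 then 1 else 0 := by
  classical
  haveI := Fintype.ofFinite C
  have e1 := inner_Pf T α α'
  have e2 := inner_Pf_If T α θ'
  have e3 := inner_Pf_If T α' θ
  have e4 := inner_If T θ θ'
  have z1 : ∑ z ∈ Finset.univ.filter (fun z : C => (z : SpecialLinearGroup (Fin 2) F) ∈ Z),
      α ((z : SpecialLinearGroup (Fin 2) F).1 0 0) * conj (α' ((z : SpecialLinearGroup (Fin 2) F).1 0 0)) =
      ∑ z ∈ Finset.univ.filter (fun z : C => (z : SpecialLinearGroup (Fin 2) F) ∈ Z),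
        ((θ z : ℂˣ) : ℂ) * conj ((θ' z : ℂˣ) : ℂ) :=
    Finset.sum_congr rfl fun z hz => by rw [h z (Finset.mem_filter.1 hz).2, h' z (Finset.mem_filter.1 hz).2]
  have z2 : ∑ z ∈ Finset.univ.filter (fun z : C => (z : SpecialLinearGroup (Fin 2) F) ∈ Z),
      α ((z : SpecialLinearGroup (Fin 2) F).1 0 0) * conj ((θ' z : ℂˣ) : ℂ) =
      ∑ z ∈ Finset.univ.filter (fun z : C => (z : SpecialLinearGroup (Fin 2) F) ∈ Z),
        ((θ z : ℂˣ) : ℂ) * conj ((θ' z : ℂˣ) : ℂ) :=
    Finset.sum_congr rfl fun z hz => by rw [h z (Finset.mem_filter.1 hz).2]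
  have z3 : ∑ z ∈ Finset.univ.filter (fun z : C => (z : SpecialLinearGroup (Fin 2) F) ∈ Z),
      α' ((z : SpecialLinearGroup (Fin 2) F).1 0 0) * conj ((θ z : ℂˣ) : ℂ) =
      ∑ z ∈ Finset.univ.filter (fun z : C => (z : SpecialLinearGroup (Fin 2) F) ∈ Z),
        ((θ' z : ℂˣ) : ℂ) * conj ((θ z : ℂˣ) : ℂ) :=
    Finset.sum_congr rfl fun z hz => by rw [h' z (Finset.mem_filter.1 hz).2]
  have z4 : conj (∑ z ∈ Finset.univ.filter (fun z : C => (z : SpecialLinearGroup (Fin 2) F) ∈ Z),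
      ((θ' z : ℂˣ) : ℂ) * conj ((θ z : ℂˣ) : ℂ)) =
      ∑ z ∈ Finset.univ.filter (fun z : C => (z : SpecialLinearGroup (Fin 2) F) ∈ Z),
        ((θ z : ℂˣ) : ℂ) * conj ((θ' z : ℂˣ) : ℂ) := by
    rw [map_sum]
    exact Finset.sum_congr rfl fun z _ => by rw [map_mul, Complex.conj_conj, mul_comm]
  rw [ff, ff, classInner_sub_left, classInner_sub_right, classInner_sub_right,
    classInner_comm (Pf α') (If θ), e1, e2, e3, e4, z1, z2, z3, map_mul, map_sub, map_natCast, map_one, z4]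
  ring

theorem inner_ff_Rf (T : IsTorus C) {α : MulChar F ℂ} {θ : C →* ℂˣ} (h : Compat α θ) (β : MulChar F ℂ) :
    Cfsg.classInner (ff α θ) (Rf β) = 0 := by
  classical
  haveI := Fintype.ofFinite C
  obtain ⟨p1, p2, p3⟩ := Pf_bor α
  have hI0 : ∀ (p : Fˣ) (c : F), ¬ ((p : F) = ((p⁻¹ : Fˣ) : F) ∧ c = 0) → If θ (bor p c) = 0 := by
    intro p c hpc
    refine If_eq_zero θ fun d hd hc => ?_
    by_cases hdz : d ∈ Z
    · have : bor p c = d := by
        obtain ⟨x, hx⟩ := isConj_iff.mp hc.symm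
        rw [← hx, Subgroup.mem_center_iff.mp hdz x, mul_inv_cancel_right]
      obtain ⟨a1, -, a3, -, -⟩ := center_eq hdz
      rw [← this] at a1 a3
      exact hpc ⟨by simpa [bor] using a3, by simpa [bor] using a1⟩
    · refine (T.noncentral hd hdz).1 (p : F) ?_
      rw [← tr_eq_of_isConj hc, tr]
      simp [bor]
      field_simp
      ring
  rw [inner_Rf (classFun_ff α θ) β, sum_bor_eq T (ff α θ)
    (fun x => ((Fintype.card F : ℂ) - 1) * α x) (fun x => -α x) (fun x => conj (β x)) ?_ ?_ ?_,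
    Finset.sum_eq_zero fun z _ => by ring, mul_zero]
  · intro p c hp
    rw [ff, Pi.sub_apply, p1 p c hp, hI0 p c fun e => hp e.1, sub_zero]
  · intro p hp
    have hz : bor p (0 : F) ∈ Z :=
      center_of_scalar (by simp [bor]) (by simp [bor]) (by simpa [bor] using hp)
    have e := h ⟨bor p 0, T.center_le hz⟩ hz
    change α ((bor p (0 : F)).1 0 0) = _ at e
    rw [show (bor p (0 : F)).1 0 0 = (p : F) by simp [bor]] at e
    rw [ff, Pi.sub_apply, p2 p hp, If_central T θ (z := ⟨bor p 0, T.center_le hz⟩) hz, e]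
    ring
  · intro p c hp hc
    rw [ff, Pi.sub_apply, p3 p c hp hc, hI0 p c fun e => hc e.2, sub_zero]

theorem inner_ff_one (T : IsTorus C) (α : MulChar F ℂ) {θ : C →* ℂˣ} (hθ : θ ≠ 1) :
    Cfsg.classInner (ff α θ) (fun _ => (1 : ℂ)) = 0 := by
  classical
  haveI := Fintype.ofFinite C
  set X : SpecialLinearGroup (Fin 2) F → ℂ := fun g => conj (Rf (1 : MulChar F ℂ) g - 2) with hX
  have hXc : Cfsg.IsClassFunction (SpecialLinearGroup (Fin 2) F) X := fun g x => by
    simp only [hX, classFun_Rf (1 : MulChar F ℂ) g x]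
  have e : Cfsg.classInner (Pf α) (fun _ => (1 : ℂ)) = conj (Cfsg.classInner X (Rf α)) := by
    rw [← classInner_comm, classInner_eq, classInner_eq]
    congr 1
    refine Finset.sum_congr rfl fun g _ => ?_
    simp only [Pf, hX, map_one, mul_one, Complex.conj_conj]
    ring
  have hz : Cfsg.classInner X (Rf α) = 0 := by
    rw [inner_Rf hXc α, sum_bor_eq T X (fun _ => (Fintype.card F : ℂ) - 1) (fun _ => -1) (fun x => conj (α x))
      ?_ ?_ ?_, Finset.sum_eq_zero fun z _ => by ring, mul_zero]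
    · intro p c hp
      simp only [hX, Rf_split 1 (bor p c) (by simp [bor]) (by simpa [bor] using hp)]
      simp [bor, MulChar.one_apply, isUnit_iff_ne_zero, map_ofNat]
      norm_num
    · intro p hp
      simp only [hX, Rf_scalar 1 (bor p 0) (by simp [bor]) (by simp [bor]) (by simpa [bor] using hp)]
      simp [bor, map_ofNat]
      ring
    · intro p c hp hc
      simp only [hX, Rf_unipotent 1 (bor p c) (by simp [bor]) (by simpa [bor] using hp) (by simpa [bor] using hc)]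
      simp [bor, map_ofNat]
      ring
  rw [ff, classInner_sub_left, e, hz, map_zero, zero_sub, neg_eq_zero, If,
    classInner_indFun _ _ (fun _ _ => rfl), classInner_eq]
  simp only [map_one, mul_one, CfsgLib.Blocks.FpfExc.sum_hom, if_neg hθ, mul_zero]

theorem ff_int (α : MulChar F ℂ) (θ : C →* ℂˣ) (χ : Cfsg.IrrCharacter (SpecialLinearGroup (Fin 2) F)) :
    ∃ n : ℤ, Cfsg.classInner (ff α θ) (χ : SpecialLinearGroup (Fin 2) F → ℂ) = (n : ℂ) := by
  have hχ := isCharacter_of_irr χ.2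
  obtain ⟨a, ha⟩ := classInner_character_nat (isCharacter_mul (isCharacter_Rf (1 : MulChar F ℂ)) (isCharacter_Rf α)) χ
  obtain ⟨b, hb⟩ := classInner_character_nat (isCharacter_Rf α) χ
  obtain ⟨c, hc⟩ := classInner_character_nat (isCharacter_If θ) χ
  refine ⟨(a : ℤ) - 2 * b - c, ?_⟩
  have e : Pf α = (fun g => Rf (1 : MulChar F ℂ) g * Rf α g) - (fun g => 2 * Rf α g) := by
    funext g; simp [Pf]; ring
  rw [ff, classInner_sub_left, e, classInner_sub_left, classInner_ofNat_smul_left, hb, hc]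
  push_cast
  rw [← ha]
  rfl

theorem ff_unit (T : IsTorus C) {α : MulChar F ℂ} {θ : C →* ℂˣ} :
    ff α θ (1 : SpecialLinearGroup (Fin 2) F) = (Fintype.card F : ℂ) - 1 := by
  have h1 : If θ (1 : SpecialLinearGroup (Fin 2) F) = (Fintype.card F : ℂ) * ((Fintype.card F : ℂ) - 1) := by
    have := If_central T θ (z := (1 : C)) (by simp)
    simpa using this
  rw [ff, Pi.sub_apply, h1, Pf_central α (one_mem _)]
  simp
  ring

theorem ff_noncentral (T : IsTorus C) {α : MulChar F ℂ} {θ : C →* ℂˣ} {c : C}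
    (hz : (c : SpecialLinearGroup (Fin 2) F) ∉ Z) :
    ff α θ (c : SpecialLinearGroup (Fin 2) F) = -(((θ c : ℂˣ) : ℂ) + ((θ c⁻¹ : ℂˣ) : ℂ)) := by
  rw [ff, Pi.sub_apply, Pf_elliptic α (T.noncentral c.2 hz).1, If_noncentral T θ hz, zero_sub]

theorem ff_central (T : IsTorus C) {α : MulChar F ℂ} {θ : C →* ℂˣ} (h : Compat α θ) {z : C}
    (hz : (z : SpecialLinearGroup (Fin 2) F) ∈ Z) :
    ff α θ (z : SpecialLinearGroup (Fin 2) F) = ((Fintype.card F : ℂ) - 1) * ((θ z : ℂˣ) : ℂ) := by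
  rw [ff, Pi.sub_apply, Pf_central α hz, If_central T θ hz, h z hz]
  ring

theorem ff_unipotent (T : IsTorus C) (α : MulChar F ℂ) (θ : C →* ℂˣ) {g : SpecialLinearGroup (Fin 2) F}
    (h10 : g.1 1 0 = 0) (heq : g.1 0 0 = g.1 1 1) (h01 : g.1 0 1 ≠ 0) : ff α θ g = -α (g.1 0 0) := by
  rw [ff, Pi.sub_apply, Pf_unipotent α h10 heq h01, If_eq_zero θ fun d hd hc => ?_, sub_zero]
  by_cases hdz : d ∈ Z
  · obtain ⟨x, hx⟩ := isConj_iff.mp hc.symm
    have : g = d := by rw [← hx, Subgroup.mem_center_iff.mp hdz x, mul_inv_cancel_right]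
    exact h01 (this ▸ (center_eq hdz).1)
  · refine (T.noncentral hd hdz).1 (g.1 0 0) ?_
    have hdet := det_eq g
    rw [h10, mul_zero, sub_zero] at hdet
    rw [← tr_eq_of_isConj hc, tr]
    linear_combination -hdet

theorem ff_split (T : IsTorus C) (α : MulChar F ℂ) (θ : C →* ℂˣ) {g : SpecialLinearGroup (Fin 2) F}
    (h10 : g.1 1 0 = 0) (hne : g.1 0 0 ≠ g.1 1 1) : ff α θ g = 0 := by
  rw [ff, Pi.sub_apply, Pf_split α h10 hne, If_eq_zero θ fun d hd hc => ?_, sub_zero]
  by_cases hdz : d ∈ Z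
  · obtain ⟨x, hx⟩ := isConj_iff.mp hc.symm
    have : g = d := by rw [← hx, Subgroup.mem_center_iff.mp hdz x, mul_inv_cancel_right]
    exact hne (this ▸ (center_eq hdz).2.2.1)
  · refine (T.noncentral hd hdz).1 (g.1 0 0) ?_
    have hdet := det_eq g
    rw [h10, mul_zero, sub_zero] at hdet
    rw [← tr_eq_of_isConj hc, tr]
    linear_combination -hdet

theorem ff_tau (T : IsTorus C) (α : MulChar F ℂ) (θ : C →* ℂˣ) (e : Fˣ) (g : SpecialLinearGroup (Fin 2) F) :
    ff α θ (tau e g) = ff α θ g := by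
  have hP : Pf α (tau e g) = Pf α g := by simp only [Pf, Rf_tau]
  rw [ff, Pi.sub_apply, Pi.sub_apply, hP]
  congr 1
  by_cases h4 : tr g ^ 2 = 4
  · by_cases hz : g ∈ Z
    · obtain ⟨a1, a2, a3, -, -⟩ := center_eq hz
      rw [show tau e g = g by apply ext2 <;> simp [a1, a2]]
    · have key : ∀ y : SpecialLinearGroup (Fin 2) F, tr y ^ 2 = 4 → y ∉ Z → If θ y = 0 := by
        intro y hy hyz
        refine If_eq_zero θ fun d hd hc => ?_
        have hdz : d ∉ Z := fun hd' => by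
          obtain ⟨x, hx⟩ := isConj_iff.mp hc.symm
          exact hyz (by rw [← hx, Subgroup.mem_center_iff.mp hd' x, mul_inv_cancel_right]; exact hd')
        exact (T.noncentral hd hdz).2.1 (by rw [← tr_eq_of_isConj hc]; exact hy)
      rw [key g h4 hz, key _ (by rw [tr_tau]; exact h4) fun hh => hz ?_]
      obtain ⟨a1, a2, a3, -, -⟩ := center_eq hh
      simp [e.ne_zero] at a1 a2 a3
      exact center_of_scalar a1 a2 a3
  · exact (apply_isConj (isCharacter_If θ) (isConj_of_tr_eq' h4 (tr_tau e g).symm)).symm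

end CfsgLib.SL2Char
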