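import Cfsg.Agent.SL2Char.Table

/-!
Degrees, values and counts read off from the table of `SL₂`.
-/

set_option autoImplicit false
set_option linter.unusedSectionVars false

namespace CfsgLib.SL2Char

open scoped ComplexConjugate
open Matrix CfsgLib.SL2 CfsgLib.CharBasics CfsgLib.PrincipalSeries

variable {F : Type*} [Field F] [Fintype F] [DecidableEq F]
variable {C : Subgroup (SpecialLinearGroup (Fin 2) F)}

local notation "Irr" => Cfsg.IrrCharacter (SpecialLinearGroup (Fin 2) F)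

theorem deg_PS {χ : SpecialLinearGroup (Fin 2) F → ℂ} (h : IsPS χ) : χ 1 = ((Fintype.card F + 1 : ℕ) : ℂ) := by
  obtain ⟨a, -, rfl⟩ := h
  rw [Rf_one]; push_cast; rfl

theorem deg_CU (T : IsTorus C) {χ : SpecialLinearGroup (Fin 2) F → ℂ} (h : IsCU T χ) :
    χ 1 = ((Fintype.card F - 1 : ℕ) : ℂ) := by
  obtain ⟨θ, -, rfl⟩ := h
  rw [ff_unit T, Nat.cast_sub Fintype.card_pos, Nat.cast_one]

theorem deg_St : (St : SpecialLinearGroup (Fin 2) F → ℂ) 1 = ((Fintype.card F : ℕ) : ℂ) := St_one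

/-- No eigenvector means no eigenvalue. -/
theorem noEigen_of_vec {g : SpecialLinearGroup (Fin 2) F}
    (h : ∀ (c : F) (v : Fin 2 → F), v ≠ 0 → (g : Matrix (Fin 2) (Fin 2) F).mulVec v ≠ c • v) : NoEigen g := by
  intro r hr
  have hd : ((g : Matrix (Fin 2) (Fin 2) F) - r • (1 : Matrix (Fin 2) (Fin 2) F)).det = 0 := by
    rw [det_fin_two]
    simp
    have := det_eq g
    rw [tr] at hr
    linear_combination hr + this
  obtain ⟨v, hv, he⟩ := Matrix.exists_mulVec_eq_zero_iff.2 hd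
  refine h r v hv ?_
  rw [Matrix.sub_mulVec, Matrix.smul_mulVec, Matrix.one_mulVec, sub_eq_zero] at he
  exact he

theorem charP_two_of_not_odd (h : ¬Odd (Fintype.card F)) : CharP F 2 := by
  have hr : ringChar F = 2 := by
    by_contra hr
    exact h (Nat.odd_iff.2 (FiniteField.odd_card_of_char_ne_two hr))
  exact ringChar.of_eq hr

/-- The sum over the upper unitriangular matrices, as a filtered sum. -/
theorem filter_sum_eq (χ : SpecialLinearGroup (Fin 2) F → ℂ) :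
    (∑ g : SpecialLinearGroup (Fin 2) F, if (g : Matrix (Fin 2) (Fin 2) F) 1 0 = 0 ∧
      (g : Matrix (Fin 2) (Fin 2) F) 0 0 = 1 ∧ (g : Matrix (Fin 2) (Fin 2) F) 1 1 = 1 then χ g else 0) = uSum χ := by
  classical
  rw [← Finset.sum_filter, uSum]
  refine (Finset.sum_bij (fun c _ => upperU c) (fun c _ => ?_) (fun a _ b _ h => upperU_injective h)
    (fun g hg => ?_) fun c _ => rfl).symm
  · simp
  · obtain ⟨h1, h2, h3⟩ := (Finset.mem_filter.1 hg).2
    exact ⟨g.1 0 1, Finset.mem_univ _, by apply ext2 <;> simp [h1, h2, h3]⟩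

theorem card_PS : 2 * Nat.card {χ : Irr // IsPS (χ : SpecialLinearGroup (Fin 2) F → ℂ)} + eps F =
    Fintype.card F - 1 := by
  classical
  haveI := finite_mulChar (F := F)
  haveI : Fintype (MulChar F ℂ) := Fintype.ofFinite _
  haveI : Fintype Irr := @Fintype.ofFinite _ finite_irrCharacter
  let fP : {α : MulChar F ℂ // α ^ 2 ≠ 1} → Irr := fun a => ⟨Rf a.1, isIrr_Rf a.2⟩
  have hP := card_image_pairs fP fun a b => (Subtype.ext_iff).trans (Rf_eq_iff a.1 b.1)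
  rw [card_mulChar_sq, card_mulChar] at hP
  rw [Nat.card_eq_fintype_card, Fintype.card_subtype]
  convert hP using 3
  apply congrArg Finset.card
  ext χ
  rw [Finset.mem_filter, Finset.mem_image]
  simp only [Finset.mem_univ, true_and]
  unfold IsPS
  constructor
  · rintro ⟨a, ha, e⟩; exact ⟨⟨a, ha⟩, Subtype.ext e.symm⟩
  · rintro ⟨a, rfl⟩; exact ⟨a.1, a.2, rfl⟩

theorem card_CU (T : IsTorus C) : 2 * Nat.card {χ : Irr // IsCU T (χ : SpecialLinearGroup (Fin 2) F → ℂ)} + eps F =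
    Fintype.card F + 1 := by
  classical
  haveI := T.cyclic
  haveI : Finite (C →* ℂˣ) := CfsgLib.Blocks.FpfExc.finite_homs fun a b => Subtype.ext (T.comm a.2 b.2)
  haveI : Fintype (C →* ℂˣ) := Fintype.ofFinite _
  letI := IsCyclic.commGroup (α := C)
  haveI : Fintype Irr := @Fintype.ofFinite _ finite_irrCharacter
  let fC : {θ : C →* ℂˣ // θ ^ 2 ≠ 1} → Irr := fun a => ⟨ff (T.al a.1) a.1, isIrr_ff T (T.al_compat _) a.2⟩
  have hC := card_image_pairs fC fun a b => (Subtype.ext_iff).trans (ff_eq_iff T (T.al_compat _) (T.al_compat _))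
  rw [T.card_dual.1, T.card_dual.2] at hC
  rw [Nat.card_eq_fintype_card, Fintype.card_subtype]
  convert hC using 3
  apply congrArg Finset.card
  ext χ
  rw [Finset.mem_filter, Finset.mem_image]
  simp only [Finset.mem_univ, true_and]
  unfold IsCU
  constructor
  · rintro ⟨a, ha, e⟩; exact ⟨⟨a, ha⟩, Subtype.ext e.symm⟩
  · rintro ⟨a, rfl⟩; exact ⟨a.1, a.2, rfl⟩

/-- Even characteristic: the degree trichotomy. -/
theorem deg_even [CharP F 2] (T : IsTorus C) (χ : Irr) :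
    ((χ : SpecialLinearGroup (Fin 2) F → ℂ) = (fun _ => 1) ∧ (χ : SpecialLinearGroup (Fin 2) F → ℂ) 1 = ((1 : ℕ) : ℂ)) ∨
    ((χ : SpecialLinearGroup (Fin 2) F → ℂ) = St ∧
      (χ : SpecialLinearGroup (Fin 2) F → ℂ) 1 = ((Fintype.card F : ℕ) : ℂ)) ∨
    (IsPS (χ : SpecialLinearGroup (Fin 2) F → ℂ) ∧
      (χ : SpecialLinearGroup (Fin 2) F → ℂ) 1 = ((Fintype.card F + 1 : ℕ) : ℂ)) ∨
    (IsCU T (χ : SpecialLinearGroup (Fin 2) F → ℂ) ∧
      (χ : SpecialLinearGroup (Fin 2) F → ℂ) 1 = ((Fintype.card F - 1 : ℕ) : ℂ)) := by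
  rcases complete_even T χ with h | h | h | h
  · exact Or.inl ⟨h, by rw [h, Nat.cast_one]⟩
  · exact Or.inr (Or.inl ⟨h, by rw [h]; exact deg_St⟩)
  · exact Or.inr (Or.inr (Or.inl ⟨h, deg_PS h⟩))
  · exact Or.inr (Or.inr (Or.inr ⟨h, deg_CU T h⟩))

/-- Odd characteristic: the six kinds, with degrees. -/
theorem OddTable.cases {T : IsTorus C} (O : OddTable T) (χ : Irr) :
    ((χ : SpecialLinearGroup (Fin 2) F → ℂ) = (fun _ => 1) ∧ (χ : SpecialLinearGroup (Fin 2) F → ℂ) 1 = ((1 : ℕ) : ℂ)) ∨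
    ((χ : SpecialLinearGroup (Fin 2) F → ℂ) = St ∧
      (χ : SpecialLinearGroup (Fin 2) F → ℂ) 1 = ((Fintype.card F : ℕ) : ℂ)) ∨
    (IsPS (χ : SpecialLinearGroup (Fin 2) F → ℂ) ∧
      (χ : SpecialLinearGroup (Fin 2) F → ℂ) 1 = ((Fintype.card F + 1 : ℕ) : ℂ)) ∨
    (IsCU T (χ : SpecialLinearGroup (Fin 2) F → ℂ) ∧
      (χ : SpecialLinearGroup (Fin 2) F → ℂ) 1 = ((Fintype.card F - 1 : ℕ) : ℂ)) ∨
    ((χ = O.h₁ ∨ χ = O.h₂) ∧ (χ : SpecialLinearGroup (Fin 2) F → ℂ) 1 = (((Fintype.card F + 1) / 2 : ℕ) : ℂ)) ∨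
    ((χ = O.s₁ ∨ χ = O.s₂) ∧ (χ : SpecialLinearGroup (Fin 2) F → ℂ) 1 = (((Fintype.card F - 1) / 2 : ℕ) : ℂ)) := by
  rcases O.complete χ with h | h | h | h | rfl | rfl | rfl | rfl
  · exact Or.inl ⟨h, by rw [h, Nat.cast_one]⟩
  · exact Or.inr (Or.inl ⟨h, by rw [h]; exact deg_St⟩)
  · exact Or.inr (Or.inr (Or.inl ⟨h, deg_PS h⟩))
  · exact Or.inr (Or.inr (Or.inr (Or.inl ⟨h, deg_CU T h⟩)))
  · exact Or.inr (Or.inr (Or.inr (Or.inr (Or.inl ⟨Or.inl rfl, O.hdeg₁⟩))))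
  · exact Or.inr (Or.inr (Or.inr (Or.inr (Or.inl ⟨Or.inr rfl, O.hdeg₂⟩))))
  · exact Or.inr (Or.inr (Or.inr (Or.inr (Or.inr ⟨Or.inl rfl, O.sdeg₁⟩))))
  · exact Or.inr (Or.inr (Or.inr (Or.inr (Or.inr ⟨Or.inr rfl, O.sdeg₂⟩))))

/-- The only character of degree `q` is the Steinberg character. -/
theorem eq_St_of_deg {χ : SpecialLinearGroup (Fin 2) F → ℂ}
    (hχ : Cfsg.IsIrrCharacter (SpecialLinearGroup (Fin 2) F) χ) (hd : χ 1 = (Fintype.card F : ℂ)) : χ = St := by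
  obtain ⟨C, T⟩ := exists_torus (F := F)
  have hq := Fintype.one_lt_card (α := F)
  by_cases hodd : Odd (Fintype.card F)
  · obtain ⟨O⟩ := nonempty_oddTable hodd T
    have h3 : 3 ≤ Fintype.card F := by rw [Nat.odd_iff] at hodd; omega
    rcases O.cases ⟨χ, hχ⟩ with ⟨-, h⟩ | ⟨h', -⟩ | ⟨-, h⟩ | ⟨-, h⟩ | ⟨-, h⟩ | ⟨-, h⟩
    all_goals first
      | exact h'
      | (replace h : χ 1 = _ := h
         rw [hd] at h
         have := Nat.cast_injective h
         omega)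
  · haveI := charP_two_of_not_odd hodd
    rcases deg_even T ⟨χ, hχ⟩ with ⟨-, h⟩ | ⟨h', -⟩ | ⟨-, h⟩ | ⟨-, h⟩
    all_goals first
      | exact h'
      | (replace h : χ 1 = _ := h
         rw [hd] at h
         have := Nat.cast_injective h
         omega)

theorem upperU_eq {u : SpecialLinearGroup (Fin 2) F} (hu : (u : Matrix (Fin 2) (Fin 2) F) = !![1, 1; 0, 1]) :
    u = upperU 1 := by
  apply ext2 <;> simp [hu]

theorem tau_diag (e : Fˣ) {g : SpecialLinearGroup (Fin 2) F} (h01 : g.1 0 1 = 0) (h10 : g.1 1 0 = 0) :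
    tau e g = g := by
  apply ext2 <;> simp [h01, h10]

/-- A pair swapped by a diagonal automorphism agrees at the semisimple regular elements. -/
theorem swap_agree {χ χ' : SpecialLinearGroup (Fin 2) F → ℂ} {e : Fˣ}
    (hχ : Cfsg.IsCharacter (SpecialLinearGroup (Fin 2) F) χ) (hsw : ∀ g, χ (tau e g) = χ' g)
    {g : SpecialLinearGroup (Fin 2) F} (h : tr g ^ 2 ≠ 4) : χ' g = χ g :=
  (hsw g).symm.trans (apply_isConj hχ (isConj_of_tr_eq' h (tr_tau e g).symm)).symm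

theorem NoEigen.tr_sq_ne {g : SpecialLinearGroup (Fin 2) F} (h : NoEigen g) : tr g ^ 2 ≠ 4 := by
  intro ht
  rcases sq_eq_sq_iff_eq_or_eq_neg.mp (ht.trans (show (4 : F) = 2 ^ 2 by norm_num)) with h2 | h2
  · exact h 1 (by rw [h2]; ring)
  · exact h (-1) (by rw [h2]; ring)

theorem tr_sq_ne_of_diag {g : SpecialLinearGroup (Fin 2) F} (h10 : g.1 1 0 = 0)
    (ha : g.1 0 0 ^ 2 ≠ 1) : g.1 0 0 ≠ g.1 1 1 ∧ tr g ^ 2 ≠ 4 := by
  have hd := det_eq g
  rw [h10, mul_zero, sub_zero] at hd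
  refine ⟨fun e => ha (by rw [sq]; nth_rw 2 [e]; exact hd), ?_⟩
  rw [tr, ← inv_eq_of_mul_eq_one_right hd]
  exact add_inv_sq_ne_four _ (left_ne_zero_of_mul_eq_one hd) ha

theorem uSum_Rf (α : MulChar F ℂ) :
    uSum (Rf α : SpecialLinearGroup (Fin 2) F → ℂ) = 2 * (Fintype.card F : ℂ) := by
  have hc : ∀ c ∈ Finset.univ.erase (0 : F), Rf α (upperU c) = 1 := fun c hc => by
    rw [Rf_unipotent α _ (by simp) (by simp) (by simpa using Finset.ne_of_mem_erase hc)]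
    simp
  rw [uSum, ← Finset.add_sum_erase _ _ (Finset.mem_univ (0 : F)), upperU_zero, Rf_one,
    Finset.sum_congr rfl hc, Finset.sum_const, Finset.card_erase_of_mem (Finset.mem_univ _), Finset.card_univ,
    nsmul_eq_mul, Nat.cast_sub Fintype.card_pos, Nat.cast_one]
  ring

theorem uSum_St : uSum (St : SpecialLinearGroup (Fin 2) F → ℂ) = (Fintype.card F : ℂ) := by
  have h : uSum (St : SpecialLinearGroup (Fin 2) F → ℂ) =
      uSum (Rf (1 : MulChar F ℂ) : SpecialLinearGroup (Fin 2) F → ℂ) - (Fintype.card F : ℂ) := by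
    simp [uSum, St, Finset.sum_sub_distrib]
  rw [h, uSum_Rf]; ring

theorem ff_upperU (T : IsTorus C) (α : MulChar F ℂ) (θ : C →* ℂˣ) {c : F} (hc : c ≠ 0) :
    ff α θ (upperU c) = -1 := by
  rw [ff_unipotent T α θ (by simp) (by simp) (by simpa using hc)]
  simp

theorem uSum_ff (T : IsTorus C) (α : MulChar F ℂ) (θ : C →* ℂˣ) : uSum (ff α θ) = 0 := by
  rw [uSum, ← Finset.add_sum_erase _ _ (Finset.mem_univ (0 : F)), upperU_zero, ff_unit T,
    Finset.sum_congr rfl (fun c hc => ff_upperU T α θ (Finset.ne_of_mem_erase hc)), Finset.sum_const,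
    Finset.card_erase_of_mem (Finset.mem_univ _), Finset.card_univ, nsmul_eq_mul, Nat.cast_sub Fintype.card_pos,
    Nat.cast_one]
  ring

/-- The swapped pairs split the sum over the unipotent subgroup evenly. -/
theorem uSum_swap {χ χ' f : SpecialLinearGroup (Fin 2) F → ℂ} {e : Fˣ} (hsw : ∀ g, χ (tau e g) = χ' g)
    (hsum : ∀ g, χ g + χ' g = f g) : uSum χ = uSum f / 2 ∧ uSum χ' = uSum f / 2 := by
  have h1 : uSum χ' = uSum χ := by
    simp only [uSum, ← hsw, tau_upperU]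
    exact Fintype.sum_equiv (Equiv.mulLeft₀ (e : F) e.ne_zero) _ _ fun c => rfl
  have h2 : uSum χ + uSum χ' = uSum f := by
    simp only [uSum, ← Finset.sum_add_distrib, hsum]
  rw [h1] at h2 ⊢
  constructor <;> linear_combination h2 / 2

end CfsgLib.SL2Char
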