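import Mathlib
import Cfsg.Agent.CharBasics.Induced
import Cfsg.Agent.IndFun.Basic

/-!
Sums of a character over the image of a finite group, induced functions along a transversal, and class
functions with integral inner products.
-/

set_option autoImplicit false
set_option linter.unusedSectionVars false

namespace CfsgLib.SL2Char

open scoped ComplexConjugate
open CfsgLib.CharBasics CfsgLib.IndFun

variable {G : Type*} [Group G] [Finite G]

/-- A sum over the image of `A` is `|A|` times a natural number; if it vanishes, all its translates do. -/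
theorem sum_hom_image {χ : G → ℂ} (h : Cfsg.IsCharacter G χ) {A : Type*} [Group A] [Fintype A] (ι : A →* G) :
    (∃ m : ℕ, ∑ a : A, χ (ι a) = (Fintype.card A : ℂ) * m) ∧
      (∑ a : A, χ (ι a) = 0 → ∀ x : G, ∑ a : A, χ (x * ι a) = 0) := by
  obtain ⟨n, ρ, rfl⟩ := h
  set c : ℂ := (Fintype.card A : ℂ)⁻¹ with hc
  set T : Module.End ℂ (Fin n → ℂ) := ∑ a : A, ρ (ι a) with hT
  have hA : (Fintype.card A : ℂ) ≠ 0 := Nat.cast_ne_zero.2 Fintype.card_ne_zero
  have hTT : T * T = (Fintype.card A : ℂ) • T := by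
    rw [hT, Finset.mul_sum, Finset.sum_congr rfl (g := fun _ => T) fun b _ => by
      rw [hT, Finset.sum_mul]
      exact Fintype.sum_equiv (Equiv.mulRight b) _ _ fun a => by simp [map_mul]]
    rw [Finset.sum_const, Finset.card_univ, ← Nat.cast_smul_eq_nsmul ℂ]
  have hP : IsIdempotentElem (c • T) := by
    rw [IsIdempotentElem, smul_mul_assoc, mul_smul_comm, hTT, smul_smul, smul_smul, hc]
    congr 1
    field_simp
  have htr : LinearMap.trace ℂ (Fin n → ℂ) (c • T) = (Module.finrank ℂ (LinearMap.range (c • T)) : ℂ) :=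
    LinearMap.IsProj.trace ((LinearMap.isProj_range_iff_isIdempotentElem _).mpr hP)
  have hsum : ∑ a : A, ρ.character (ι a) = LinearMap.trace ℂ (Fin n → ℂ) T := by
    simp only [hT, map_sum]; rfl
  have hval : ∑ a : A, ρ.character (ι a) =
      (Fintype.card A : ℂ) * (Module.finrank ℂ (LinearMap.range (c • T)) : ℂ) := by
    rw [← htr, map_smul, smul_eq_mul, hsum, hc, ← mul_assoc, mul_inv_cancel₀ hA, one_mul]
  refine ⟨⟨_, hval⟩, fun h0 x => ?_⟩
  rw [hval, mul_eq_zero, Nat.cast_eq_zero, Nat.cast_eq_zero] at h0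
  have hr : LinearMap.range (c • T) = ⊥ := Submodule.finrank_eq_zero.1 (h0.resolve_left Fintype.card_ne_zero)
  have hT0 : T = 0 := by
    rw [LinearMap.range_eq_bot, smul_eq_zero] at hr
    exact hr.resolve_left (inv_ne_zero hA)
  calc ∑ a : A, ρ.character (x * ι a) = LinearMap.trace ℂ (Fin n → ℂ) (ρ x * T) := by
        simp only [hT, Finset.mul_sum, map_sum, ← map_mul]; rfl
    _ = 0 := by rw [hT0, mul_zero, map_zero]

/-- An induced class function as a sum over a transversal. -/
theorem indFun_eq_sum_reps [Fintype G] (H : Subgroup G) (θ : H → ℂ) (hθ : Cfsg.IsClassFunction H θ)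
    {ι : Type*} [Fintype ι] (R : ι → G) (hR : Function.Bijective fun i => (R i : G ⧸ H)) (g : G) :
    Cfsg.indFun H θ g = ∑ i, Cfsg.extendByZero H θ ((R i)⁻¹ * g * R i) := by
  classical
  haveI := Fintype.ofFinite H
  have hinv : ∀ (h : H) (z : G),
      Cfsg.extendByZero H θ ((h : G)⁻¹ * z * h) = Cfsg.extendByZero H θ z := by
    intro h z
    by_cases hz : z ∈ H
    · rw [extendByZero_mem _ hz, extendByZero_mem _ (H.mul_mem (H.mul_mem (H.inv_mem h.2) hz) h.2)]
      have := hθ ⟨z, hz⟩ h⁻¹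
      rw [inv_inv] at this
      exact this
    · rw [extendByZero_not_mem _ hz, extendByZero_not_mem]
      intro hh
      apply hz
      simpa [mul_assoc] using H.mul_mem (H.mul_mem h.2 hh) (H.inv_mem h.2)
  let f : ι × H → G := fun x => R x.1 * x.2
  have hf : Function.Bijective f := by
    constructor
    · rintro ⟨i, h⟩ ⟨j, k⟩ e
      have e1 : i = j := hR.1 (QuotientGroup.eq.2 (by
        have : (R i)⁻¹ * R j = (h : G) * (k : G)⁻¹ := by
          rw [eq_mul_inv_iff_mul_eq, mul_assoc, inv_mul_eq_iff_eq_mul]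
          exact e.symm
        rw [this]; exact H.mul_mem h.2 (H.inv_mem k.2)))
      subst e1
      exact Prod.ext rfl (Subtype.ext (mul_left_cancel e))
    · intro x
      obtain ⟨i, hi⟩ := hR.2 (x : G ⧸ H)
      exact ⟨(i, ⟨_, QuotientGroup.eq.1 hi⟩), mul_inv_cancel_left _ _⟩
  have hsum : ∑ x : G, Cfsg.extendByZero H θ (x⁻¹ * g * x) =
      ∑ i, (Nat.card H : ℂ) * Cfsg.extendByZero H θ ((R i)⁻¹ * g * R i) := by
    rw [← (Equiv.ofBijective f hf).sum_comp, Fintype.sum_prod_type]
    refine Finset.sum_congr rfl fun i _ => ?_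
    rw [Nat.card_eq_fintype_card, ← nsmul_eq_mul, ← Finset.card_univ, ← Finset.sum_const]
    refine Finset.sum_congr rfl fun h _ => ?_
    rw [← hinv h ((R i)⁻¹ * g * R i)]
    congr 1
    show (R i * (h : G))⁻¹ * g * (R i * h) = _
    group
  rw [Cfsg.indFun, hsum, ← Finset.mul_sum, inv_mul_cancel_left₀ (Nat.cast_ne_zero.2 Nat.card_pos.ne')]

theorem classInner_sub_left [Fintype G] (φ φ' ψ : G → ℂ) :
    Cfsg.classInner (φ - φ') ψ = Cfsg.classInner φ ψ - Cfsg.classInner φ' ψ := by
  simp [classInner_eq, sub_mul, Finset.sum_sub_distrib, mul_sub]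

theorem classInner_sub_right [Fintype G] (φ ψ ψ' : G → ℂ) :
    Cfsg.classInner φ (ψ - ψ') = Cfsg.classInner φ ψ - Cfsg.classInner φ ψ' := by
  simp [classInner_eq, mul_sub, Finset.sum_sub_distrib]

theorem classInner_ofNat_smul_left [Fintype G] (c : ℂ) (φ ψ : G → ℂ) :
    Cfsg.classInner (fun g => c * φ g) ψ = c * Cfsg.classInner φ ψ :=
  classInner_smul_left c φ ψ

/-- Expansion of a class function with integral inner products. -/
theorem int_expansion [Fintype G] [Fintype (Cfsg.IrrCharacter G)] {f : G → ℂ} (hf : Cfsg.IsClassFunction G f)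
    (n : Cfsg.IrrCharacter G → ℤ) (hn : ∀ χ : Cfsg.IrrCharacter G, Cfsg.classInner f (χ : G → ℂ) = (n χ : ℂ)) :
    Cfsg.classInner f f = ((∑ χ, n χ ^ 2 : ℤ) : ℂ) ∧
      f 1 = ((∑ χ : Cfsg.IrrCharacter G, n χ * (Cfsg.charDegree (χ : G → ℂ) : ℤ) : ℤ) : ℂ) := by
  classical
  have he := classFun_expand hf
  constructor
  · conv_lhs => arg 1; rw [he]
    rw [classInner_sum_left]
    push_cast
    refine Finset.sum_congr rfl fun χ _ => ?_
    rw [classInner_smul_left, hn χ, classInner_comm f (χ : G → ℂ), hn χ, map_intCast, sq]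
  · conv_lhs => rw [he]
    push_cast
    simp only [Finset.sum_apply, Pi.smul_apply, smul_eq_mul]
    exact Finset.sum_congr rfl fun χ _ => by rw [hn χ, apply_one (isCharacter_of_irr χ.2)]

/-- An integral class function of norm one with positive value at the identity is irreducible. -/
theorem isIrr_of_int_norm_one [Fintype G] {f : G → ℂ} (hf : Cfsg.IsClassFunction G f)
    (hint : ∀ χ : Cfsg.IrrCharacter G, ∃ n : ℤ, Cfsg.classInner f (χ : G → ℂ) = (n : ℂ))
    (h1 : Cfsg.classInner f f = 1) {d : ℕ} (hd : f 1 = (d : ℂ)) : Cfsg.IsIrrCharacter G f := by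
  classical
  haveI := Fintype.ofFinite (Cfsg.IrrCharacter G)
  choose n hn using hint
  obtain ⟨hA, hB⟩ := int_expansion hf n hn
  rw [h1] at hA
  rw [hd] at hB
  have hsum : ∑ χ, n χ ^ 2 = 1 := by exact_mod_cast hA.symm
  have hdeg : ∑ χ : Cfsg.IrrCharacter G, n χ * (Cfsg.charDegree (χ : G → ℂ) : ℤ) = (d : ℤ) := by
    exact_mod_cast hB.symm
  obtain ⟨χ₀, hχ₀⟩ : ∃ χ, n χ ≠ 0 := by
    by_contra hc
    push Not at hc
    simp [hc] at hsum
  have hrest : ∀ χ, χ ≠ χ₀ → n χ = 0 := by
    intro χ hne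
    by_contra h0
    have h2 : n χ ^ 2 + n χ₀ ^ 2 ≤ 1 := by
      rw [← hsum, ← Finset.sum_pair (f := fun χ => n χ ^ 2) hne]
      exact Finset.sum_le_sum_of_subset_of_nonneg (Finset.subset_univ _) fun i _ _ => sq_nonneg _
    have h3 : 0 < n χ ^ 2 := lt_of_le_of_ne (sq_nonneg _) (fun e => h0 (by simpa using e.symm))
    have h4 : 0 < n χ₀ ^ 2 := lt_of_le_of_ne (sq_nonneg _) (fun e => hχ₀ (by simpa using e.symm))
    omega
  rw [Finset.sum_eq_single χ₀ (fun χ _ h => by rw [hrest χ h]; norm_num) (by simp)] at hsum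
  rw [Finset.sum_eq_single χ₀ (fun χ _ h => by rw [hrest χ h, zero_mul]) (by simp)] at hdeg
  have hn0 : n χ₀ = 1 := by
    have hpm : n χ₀ = 1 ∨ n χ₀ = -1 := sq_eq_one_iff.1 hsum
    have := charDegree_pos χ₀.2
    rcases hpm with h | h
    · exact h
    · rw [h] at hdeg; omega
  have he := classFun_expand hf
  rw [Finset.sum_eq_single χ₀ (fun χ _ h => by rw [hn χ, hrest χ h, Int.cast_zero, zero_smul]) (by simp),
    hn χ₀, hn0, Int.cast_one, one_smul] at he
  rw [he]
  exact χ₀.2

end CfsgLib.SL2Char
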