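import Cfsg.Agent.SL2Char.Idem
import Cfsg.Agent.Clifford.PrincipalSeriesSL
import Cfsg.Agent.SL2.Classes
import Cfsg.Agent.SL2.Centralizer
import Cfsg.Agent.Blocks.FpfExc.Dual

/-!
The principal series of `SL₂` over a finite field: values, invariance under diagonal automorphisms, and the
restriction to the upper triangular subgroup.
-/

set_option autoImplicit false
set_option linter.unusedSectionVars false

namespace CfsgLib.SL2Char

open scoped ComplexConjugate
open Matrix CfsgLib.SL2 CfsgLib.CharBasics CfsgLib.IndFun CfsgLib.PrincipalSeries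

variable {F : Type*} [Field F] [Fintype F] [DecidableEq F]

/-- The principal series. -/
noncomputable def Rf (α : MulChar F ℂ) : SpecialLinearGroup (Fin 2) F → ℂ :=
  Cfsg.indFun (slBorel F) (slChar α)

theorem isCharacter_slChar (α : MulChar F ℂ) : Cfsg.IsCharacter (slBorel F) (slChar α) :=
  CfsgLib.Clifford.isCharacter_of_hom (slHom α)

theorem isCharacter_Rf (α : MulChar F ℂ) : Cfsg.IsCharacter (SpecialLinearGroup (Fin 2) F) (Rf α) :=
  isCharacter_indFun _ (isCharacter_slChar α)

theorem classFun_Rf (α : MulChar F ℂ) : Cfsg.IsClassFunction (SpecialLinearGroup (Fin 2) F) (Rf α) :=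
  isClassFunction (isCharacter_Rf α)

/-- Coset representatives of the upper triangular subgroup. -/
def repR : Option F → SpecialLinearGroup (Fin 2) F
  | none => 1
  | some c => mk2 c (-1) 1 0 (by ring)

theorem repR_bijective :
    Function.Bijective fun o : Option F =>
      (QuotientGroup.mk (repR o) : SpecialLinearGroup (Fin 2) F ⧸ slBorel F) := by
  have hD : ∀ u v : SpecialLinearGroup (Fin 2) F,
      (QuotientGroup.mk u : SpecialLinearGroup (Fin 2) F ⧸ slBorel F) = QuotientGroup.mk v ↔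
        u.1 0 0 * v.1 1 0 - u.1 1 0 * v.1 0 0 = 0 := by
    intro u v
    rw [QuotientGroup.eq, mem_slBorel_iff, mul10, inv10, inv11]
    constructor <;> intro h <;> linear_combination h
  constructor
  · intro o o' h
    have h' := (hD _ _).mp h
    rcases o with _ | c <;> rcases o' with _ | c'
    · rfl
    · exact absurd h' (by simp [repR])
    · exact absurd h' (by simp [repR])
    · simp [repR] at h'; exact congrArg some (by linear_combination h')
  · intro q
    obtain ⟨u, rfl⟩ := QuotientGroup.mk_surjective q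
    by_cases hc : u.1 1 0 = 0
    · exact ⟨none, (hD _ _).mpr (by simp [repR, hc])⟩
    · exact ⟨some (u.1 0 0 / u.1 1 0), (hD _ _).mpr (by simp [repR]; field_simp; ring)⟩

/-- The value formula. -/
theorem Rf_apply (α : MulChar F ℂ) (g : SpecialLinearGroup (Fin 2) F) :
    Rf α g = (if g.1 1 0 = 0 then α (g.1 0 0) else 0) +
      ∑ c : F, if g.1 1 0 * c ^ 2 + (g.1 1 1 - g.1 0 0) * c - g.1 0 1 = 0
        then α (g.1 1 0 * c + g.1 1 1) else 0 := by
  classical
  rw [Rf, indFun_eq_sum_reps (slBorel F) (slChar α) (isClassFunction_slChar α) repR repR_bijective,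
    Fintype.sum_option]
  congr 1
  · simp only [repR, inv_one, one_mul, mul_one]
    by_cases h : g.1 1 0 = 0
    · rw [extendByZero_mem _ ((mem_slBorel_iff g).2 h), if_pos h]; rfl
    · rw [extendByZero_not_mem _ (fun hh => h ((mem_slBorel_iff g).1 hh)), if_neg h]
  · refine Finset.sum_congr rfl fun c _ => ?_
    have e10 : ((repR (some c))⁻¹ * g * repR (some c)).1 1 0 =
        g.1 1 0 * c ^ 2 + (g.1 1 1 - g.1 0 0) * c - g.1 0 1 := by
      simp only [repR, mul10, mul11, inv10, inv11, mk2_coe, Matrix.of_apply, Matrix.cons_val_zero,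
        Matrix.cons_val_one]
      ring
    have e00 : ((repR (some c))⁻¹ * g * repR (some c)).1 0 0 = g.1 1 0 * c + g.1 1 1 := by
      simp only [repR, mul00, mul01, inv00, inv01, mk2_coe, Matrix.of_apply, Matrix.cons_val_zero,
        Matrix.cons_val_one]
      ring
    by_cases h : g.1 1 0 * c ^ 2 + (g.1 1 1 - g.1 0 0) * c - g.1 0 1 = 0
    · rw [extendByZero_mem _ ((mem_slBorel_iff _).2 (e10.trans h)), if_pos h, slChar]
      exact congrArg α e00
    · rw [extendByZero_not_mem _ (fun hh => h (e10 ▸ (mem_slBorel_iff _).1 hh)), if_neg h]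

theorem Rf_scalar (α : MulChar F ℂ) (g : SpecialLinearGroup (Fin 2) F) (h10 : g.1 1 0 = 0) (h01 : g.1 0 1 = 0)
    (heq : g.1 0 0 = g.1 1 1) : Rf α g = ((Fintype.card F : ℂ) + 1) * α (g.1 0 0) := by
  rw [Rf_apply, if_pos h10]
  simp only [h10, h01, heq, sub_self, zero_mul, add_zero, sub_zero, if_true, zero_add, Finset.sum_const,
    Finset.card_univ, nsmul_eq_mul]
  ring

theorem Rf_unipotent (α : MulChar F ℂ) (g : SpecialLinearGroup (Fin 2) F) (h10 : g.1 1 0 = 0)
    (heq : g.1 0 0 = g.1 1 1) (h01 : g.1 0 1 ≠ 0) : Rf α g = α (g.1 0 0) := by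
  rw [Rf_apply, if_pos h10, Finset.sum_eq_zero fun c _ => ?_, add_zero]
  rw [if_neg]
  rw [h10, heq, sub_self, zero_mul, zero_mul, zero_add, zero_sub, neg_eq_zero]
  exact h01

theorem Rf_split (α : MulChar F ℂ) (g : SpecialLinearGroup (Fin 2) F) (h10 : g.1 1 0 = 0)
    (hne : g.1 0 0 ≠ g.1 1 1) : Rf α g = α (g.1 0 0) + α (g.1 1 1) := by
  have hd : g.1 1 1 - g.1 0 0 ≠ 0 := sub_ne_zero.2 (Ne.symm hne)
  rw [Rf_apply, if_pos h10, Finset.sum_eq_single (g.1 0 1 / (g.1 1 1 - g.1 0 0))]
  · rw [if_pos (by rw [h10]; field_simp; ring), h10, zero_mul, zero_add]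
  · intro c _ hc
    refine if_neg fun h => hc ?_
    rw [eq_div_iff hd]
    rw [h10] at h
    linear_combination h
  · simp

/-- No eigenvalue in the field. -/
def NoEigen (g : SpecialLinearGroup (Fin 2) F) : Prop := ∀ r : F, r * r - tr g * r + 1 ≠ 0

theorem Rf_elliptic (α : MulChar F ℂ) {g : SpecialLinearGroup (Fin 2) F} (h : NoEigen g) : Rf α g = 0 := by
  have hd := det_eq g
  rw [Rf_apply, if_neg, zero_add, Finset.sum_eq_zero fun c _ => if_neg ?_]
  · intro hc
    refine h (g.1 1 0 * c + g.1 1 1) ?_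
    rw [tr]
    linear_combination g.1 1 0 * hc - hd
  · intro h10
    refine h (g.1 0 0) ?_
    rw [tr]
    rw [h10] at hd
    linear_combination -hd

theorem Rf_one (α : MulChar F ℂ) : Rf α (1 : SpecialLinearGroup (Fin 2) F) = (Fintype.card F : ℂ) + 1 := by
  rw [Rf_scalar α 1 (by simp) (by simp) (by simp)]
  simp

/-- The diagonal automorphisms. -/
def tau (e : Fˣ) : SpecialLinearGroup (Fin 2) F ≃* SpecialLinearGroup (Fin 2) F where
  toFun g := mk2 (g.1 0 0) (e * g.1 0 1) (((e⁻¹ : Fˣ) : F) * g.1 1 0) (g.1 1 1) (by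
    linear_combination det_eq g - g.1 0 1 * g.1 1 0 * e.mul_inv)
  invFun g := mk2 (g.1 0 0) (((e⁻¹ : Fˣ) : F) * g.1 0 1) (e * g.1 1 0) (g.1 1 1) (by
    linear_combination det_eq g - g.1 0 1 * g.1 1 0 * e.inv_mul)
  left_inv g := by
    apply ext2 <;> simp [← mul_assoc]
  right_inv g := by
    apply ext2 <;> simp [← mul_assoc]
  map_mul' g h := by
    apply ext2 <;> simp [mul00, mul01, mul10, mul11]
    · field_simp
    · ring
    · ring
    · field_simp

@[simp] theorem tau00 (e : Fˣ) (g : SpecialLinearGroup (Fin 2) F) : (tau e g).1 0 0 = g.1 0 0 := rfl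
@[simp] theorem tau01 (e : Fˣ) (g : SpecialLinearGroup (Fin 2) F) : (tau e g).1 0 1 = (e : F) * g.1 0 1 := rfl
@[simp] theorem tau10 (e : Fˣ) (g : SpecialLinearGroup (Fin 2) F) :
    (tau e g).1 1 0 = ((e⁻¹ : Fˣ) : F) * g.1 1 0 := rfl
@[simp] theorem tau11 (e : Fˣ) (g : SpecialLinearGroup (Fin 2) F) : (tau e g).1 1 1 = g.1 1 1 := rfl

theorem tau_upperU (e : Fˣ) (c : F) : tau e (upperU c) = upperU ((e : F) * c) := by
  apply ext2 <;> simp

theorem tr_tau (e : Fˣ) (g : SpecialLinearGroup (Fin 2) F) : tr (tau e g) = tr g := by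
  simp [tr]

theorem Rf_tau (α : MulChar F ℂ) (e : Fˣ) (g : SpecialLinearGroup (Fin 2) F) : Rf α (tau e g) = Rf α g := by
  rw [Rf_apply, Rf_apply]
  congr 1
  · simp
  · rw [← Equiv.sum_comp (Equiv.mulLeft₀ (e : F) e.ne_zero)]
    refine Finset.sum_congr rfl fun c _ => ?_
    have h1 : (tau e g).1 1 0 * ((e : F) * c) + (tau e g).1 1 1 = g.1 1 0 * c + g.1 1 1 := by
      simp; field_simp
    have h2 : (tau e g).1 1 0 * ((e : F) * c) ^ 2 + ((tau e g).1 1 1 - (tau e g).1 0 0) * ((e : F) * c) -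
        (tau e g).1 0 1 = (e : F) * (g.1 1 0 * c ^ 2 + (g.1 1 1 - g.1 0 0) * c - g.1 0 1) := by
      simp; field_simp
    show (if (tau e g).1 1 0 * ((e : F) * c) ^ 2 + ((tau e g).1 1 1 - (tau e g).1 0 0) * ((e : F) * c) -
        (tau e g).1 0 1 = 0 then α ((tau e g).1 1 0 * ((e : F) * c) + (tau e g).1 1 1) else 0) = _
    rw [h1, h2]
    simp only [mul_eq_zero, e.ne_zero, false_or]

/-- The upper triangular element with parameters. -/
def bor (p : Fˣ) (c : F) : SpecialLinearGroup (Fin 2) F :=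
  mk2 (p : F) c 0 ((p⁻¹ : Fˣ) : F) (by simp)

theorem bor_eq (p : Fˣ) (c : F) : (slBorelEquiv.symm (p, c) : SpecialLinearGroup (Fin 2) F) = bor p c := by
  apply ext2 <;> simp [slBorelEquiv, bor]

theorem card_slBorel : Nat.card (slBorel F) = (Fintype.card F - 1) * Fintype.card F := by
  rw [Nat.card_congr slBorelEquiv, Nat.card_prod, Nat.card_eq_fintype_card, Nat.card_eq_fintype_card,
    Fintype.card_units]

/-- Frobenius reciprocity in parameters. -/
theorem inner_Rf {f : SpecialLinearGroup (Fin 2) F → ℂ}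
    (hf : Cfsg.IsClassFunction (SpecialLinearGroup (Fin 2) F) f) (α : MulChar F ℂ) :
    Cfsg.classInner f (Rf α) = (((Fintype.card F : ℂ) - 1) * (Fintype.card F : ℂ))⁻¹ *
      ∑ p : Fˣ, ∑ c : F, f (bor p c) * conj (α (p : F)) := by
  classical
  haveI := Fintype.ofFinite (slBorel F)
  rw [Rf, classInner_indFun' _ _ hf, classInner_eq, ← slBorelEquiv.symm.sum_comp, Fintype.sum_prod_type,
    card_slBorel, Nat.cast_mul, Nat.cast_sub Fintype.card_pos, Nat.cast_one]
  congr 1
  refine Finset.sum_congr rfl fun p _ => Finset.sum_congr rfl fun c _ => ?_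
  rw [slChar, bor_eq]
  simp [bor]

/-- The sum over the upper unitriangular elements. -/
def uSum (f : SpecialLinearGroup (Fin 2) F → ℂ) : ℂ := ∑ c : F, f (upperU c)

theorem bor_one (c : F) : bor (1 : Fˣ) c = upperU c := by
  apply ext2 <;> simp [bor]

/-- The multiplicities in the principal series add up to the average over the unipotent subgroup. -/
theorem sum_inner_Rf [Fintype (MulChar F ℂ)] {f : SpecialLinearGroup (Fin 2) F → ℂ}
    (hf : Cfsg.IsClassFunction (SpecialLinearGroup (Fin 2) F) f) :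
    ∑ α : MulChar F ℂ, Cfsg.classInner f (Rf α) = (Fintype.card F : ℂ)⁻¹ * uSum f := by
  classical
  have hsum : ∀ p : Fˣ, ∑ α : MulChar F ℂ, conj (α (p : F)) = if p = 1 then ((Fintype.card F : ℂ) - 1) else 0 := by
    intro p
    haveI : Fintype (Fˣ →* ℂˣ) := Fintype.ofEquiv _ MulChar.equivToUnitHom
    rw [← map_sum, Fintype.sum_equiv MulChar.equivToUnitHom (fun α : MulChar F ℂ => α (p : F))
      (fun ψ : Fˣ →* ℂˣ => ((ψ p : ℂˣ) : ℂ)) (fun α => (MulChar.coe_equivToUnitHom α p).symm),
      CfsgLib.Blocks.FpfExc.sum_homs (fun a b => mul_comm a b) p]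
    split_ifs with h
    · rw [map_natCast, Nat.card_eq_fintype_card, Fintype.card_units, Nat.cast_sub Fintype.card_pos, Nat.cast_one]
    · rw [map_zero]
  rw [Finset.sum_congr rfl fun α _ => inner_Rf hf α, ← Finset.mul_sum, Finset.sum_comm,
    Finset.sum_congr rfl fun p _ => (by
      rw [Finset.sum_comm]
      simp only [← Finset.mul_sum, hsum p] :
      ∑ α : MulChar F ℂ, ∑ c : F, f (bor p c) * conj (α (p : F)) =
        ∑ c : F, f (bor p c) * if p = 1 then ((Fintype.card F : ℂ) - 1) else 0),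
    Finset.sum_eq_single (1 : Fˣ) (fun p _ hp => by simp [hp]) (by simp)]
  simp only [if_pos, bor_one, ← Finset.sum_mul, uSum]
  have h1 : (Fintype.card F : ℂ) - 1 ≠ 0 :=
    sub_ne_zero.2 (by exact_mod_cast (Fintype.one_lt_card (α := F)).ne')
  field_simp

theorem uSum_nat {χ : SpecialLinearGroup (Fin 2) F → ℂ}
    (h : Cfsg.IsCharacter (SpecialLinearGroup (Fin 2) F) χ) : ∃ m : ℕ, uSum χ = (Fintype.card F : ℂ) * m := by
  obtain ⟨m, hm⟩ := (sum_hom_image h (upperHom (F := F))).1
  refine ⟨m, ?_⟩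
  rw [Fintype.card_multiplicative] at hm
  rw [← hm, uSum]
  exact Fintype.sum_equiv Multiplicative.ofAdd _ _ fun c => rfl

/-- A character orthogonal on the unipotent subgroup is orthogonal to the whole principal series. -/
theorem inner_Rf_eq_zero {χ : SpecialLinearGroup (Fin 2) F → ℂ}
    (h : Cfsg.IsCharacter (SpecialLinearGroup (Fin 2) F) χ) (h0 : uSum χ = 0) (α : MulChar F ℂ) :
    Cfsg.classInner χ (Rf α) = 0 := by
  have hu : ∑ a : Multiplicative F, χ (upperHom a) = 0 := by
    rw [← h0, uSum]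
    exact Fintype.sum_equiv Multiplicative.toAdd _ _ fun c => rfl
  rw [inner_Rf (isClassFunction h), Finset.sum_eq_zero fun p _ => ?_, mul_zero]
  rw [← Finset.sum_mul]
  have hz := (sum_hom_image h (upperHom (F := F))).2 hu (diagT p)
  rw [show ∑ c : F, χ (bor p c) = ∑ a : Multiplicative F, χ (diagT p * upperHom a) from
    Fintype.sum_equiv ((Equiv.mulLeft₀ ((p : F)⁻¹) (inv_ne_zero p.ne_zero)).trans Multiplicative.ofAdd) _ _
      fun c => by
        congr 1
        apply ext2 <;> simp [bor, upperHom, mul00, mul01, mul10, mul11], hz, zero_mul]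

/-- The Steinberg character. -/
noncomputable def St : SpecialLinearGroup (Fin 2) F → ℂ :=
  Rf (1 : MulChar F ℂ) - fun _ => 1

theorem St_one : St (1 : SpecialLinearGroup (Fin 2) F) = (Fintype.card F : ℂ) := by
  simp [St, Rf_one]

theorem inner_Rf_triv (α : MulChar F ℂ) :
    Cfsg.classInner (fun _ => (1 : ℂ)) (Rf α) = if α = 1 then 1 else 0 := by
  classical
  rw [inner_Rf (fun _ _ => rfl)]
  simp only [one_mul, Finset.sum_const, Finset.card_univ, nsmul_eq_mul, ← Finset.mul_sum, ← map_sum]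
  rw [show (fun p : Fˣ => α (p : F)) = (fun p : Fˣ => α (p : F) * conj ((1 : MulChar F ℂ) (p : F))) from
    funext fun p => by simp, sum_units_mulChar]
  have h1 : (Fintype.card F : ℂ) - 1 ≠ 0 :=
    sub_ne_zero.2 (by exact_mod_cast (Fintype.one_lt_card (α := F)).ne')
  have h0 : (Fintype.card F : ℂ) ≠ 0 := Nat.cast_ne_zero.2 Fintype.card_ne_zero
  split_ifs
  · rw [Nat.card_eq_fintype_card, Fintype.card_units, Nat.cast_sub Fintype.card_pos, Nat.cast_one, map_sub,
      map_one, map_natCast]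
    field_simp
  · simp

theorem isIrr_St : Cfsg.IsIrrCharacter (SpecialLinearGroup (Fin 2) F) (St (F := F)) := by
  classical
  have hT : Cfsg.IsIrrCharacter (SpecialLinearGroup (Fin 2) F) (fun _ => (1 : ℂ)) := isIrrCharacter_one
  have h1 := inner_Rf_triv (1 : MulChar F ℂ)
  rw [if_pos rfl] at h1
  have h1' : Cfsg.classInner (Rf (1 : MulChar F ℂ)) (fun _ => (1 : ℂ)) = 1 := by
    rw [classInner_comm (fun _ => (1 : ℂ)) (Rf (1 : MulChar F ℂ)), h1, map_one]
  refine isIrr_of_int_norm_one (fun g x => ?_) (fun χ => ?_) ?_ (d := Fintype.card F) St_one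
  · simp [St, classFun_Rf (1 : MulChar F ℂ) g x]
  · obtain ⟨m, hm⟩ := classInner_character_nat (isCharacter_Rf (1 : MulChar F ℂ)) χ
    refine ⟨(m : ℤ) - if (χ : SpecialLinearGroup (Fin 2) F → ℂ) = (fun _ => 1) then 1 else 0, ?_⟩
    rw [St, classInner_sub_left, hm]
    split_ifs with h
    · rw [h, classInner_self hT]; push_cast; ring
    · rw [classInner_ne hT χ.2 (Ne.symm h)]; push_cast; ring
  · rw [St, classInner_sub_left, classInner_sub_right, classInner_sub_right, h1', h1, classInner_self hT, Rf,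
      inner_sl, if_pos rfl, if_pos (one_mul _)]
    ring

theorem isIrr_Rf {α : MulChar F ℂ} (h : α ^ 2 ≠ 1) :
    Cfsg.IsIrrCharacter (SpecialLinearGroup (Fin 2) F) (Rf α) := by
  classical
  refine isIrr_of_norm_one (isCharacter_Rf α) ?_
  rw [Rf, inner_sl, if_pos rfl, if_neg (by rwa [← sq]), add_zero]

theorem Rf_eq_iff (α β : MulChar F ℂ) : Rf α = Rf β ↔ α = β ∨ α * β = 1 := by
  classical
  constructor
  · intro h
    by_contra hc
    rw [not_or] at hc
    have h0 := inner_sl α β
    rw [if_neg hc.1, if_neg hc.2, add_zero, ← Rf, ← Rf, ← h, Rf, inner_sl, if_pos rfl] at h0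
    split_ifs at h0 <;> norm_num at h0
  · rintro (rfl | h)
    · rfl
    · have h' : β * α = 1 := by rw [mul_comm]; exact h
      funext g
      -- compare the two norms
      have hn : Cfsg.classInner (Rf α - Rf β) (Rf α - Rf β) = 0 := by
        rw [classInner_sub_left, classInner_sub_right, classInner_sub_right]
        simp only [Rf, inner_sl, h, h', if_true]
        by_cases hab : α = β
        · subst hab; simp [h]
        · have ha : α * α ≠ 1 := fun e => hab ((mul_left_cancel (e.trans h.symm)))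
          have hb : β * β ≠ 1 := fun e => hab (mul_right_cancel (h.trans e.symm))
          simp [hab, Ne.symm hab, ha, hb]
      rw [classInner_eq, mul_eq_zero] at hn
      have h4 := hn.resolve_left (inv_ne_zero (Nat.cast_ne_zero.mpr Nat.card_pos.ne'))
      simp only [Complex.mul_conj, ← Complex.ofReal_sum, Complex.ofReal_eq_zero] at h4
      exact sub_eq_zero.mp (Complex.normSq_eq_zero.mp
        ((Finset.sum_eq_zero_iff_of_nonneg (fun x _ => Complex.normSq_nonneg _)).mp h4 g (Finset.mem_univ _)))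

end CfsgLib.SL2Char
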