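import Cfsg.Agent.SL2Char.Cuspidal
import Cfsg.Agent.S2307
import Cfsg.Agent.Clifford.Basic

/-!
The irreducible characters of `SL₂` over a finite field.
-/

set_option autoImplicit false
set_option linter.unusedSectionVars false

namespace CfsgLib.SL2Char

open scoped ComplexConjugate
open Matrix CfsgLib.SL2 CfsgLib.CharBasics CfsgLib.PrincipalSeries

variable {F : Type*} [Field F] [Fintype F] [DecidableEq F]
variable {C : Subgroup (SpecialLinearGroup (Fin 2) F)}

theorem eq_of_inner {G : Type*} [Group G] [Fintype G] {f g : G → ℂ} {a : ℂ} (hff : Cfsg.classInner f f = a)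
    (hfg : Cfsg.classInner f g = a) (hgf : Cfsg.classInner g f = a) (hgg : Cfsg.classInner g g = a) : f = g := by
  have hn : Cfsg.classInner (f - g) (f - g) = 0 := by
    rw [classInner_sub_left, classInner_sub_right, classInner_sub_right, hff, hfg, hgf, hgg]; ring
  rw [classInner_eq, mul_eq_zero] at hn
  have h4 := hn.resolve_left (inv_ne_zero (Nat.cast_ne_zero.mpr Nat.card_pos.ne'))
  simp only [Complex.mul_conj, ← Complex.ofReal_sum, Complex.ofReal_eq_zero] at h4
  funext x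
  exact sub_eq_zero.mp (Complex.normSq_eq_zero.mp
    ((Finset.sum_eq_zero_iff_of_nonneg (fun x _ => Complex.normSq_nonneg _)).mp h4 x (Finset.mem_univ _)))

/-- Number of square roots of one. -/
noncomputable def eps (F : Type*) [Field F] : ℕ := Nat.card {w : F // w ^ 2 = 1}

theorem finite_mulChar : Finite (MulChar F ℂ) := by
  haveI : Finite (Fˣ →* ℂˣ) := CfsgLib.Blocks.FpfExc.finite_homs (fun a b => mul_comm a b)
  exact Finite.of_equiv _ MulChar.equivToUnitHom.symm

theorem card_mulChar : Nat.card (MulChar F ℂ) = Fintype.card F - 1 := by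
  rw [Nat.card_congr MulChar.equivToUnitHom, CfsgLib.Blocks.FpfExc.card_homs (fun a b => mul_comm a b),
    Nat.card_eq_fintype_card, Fintype.card_units]

theorem card_sq_units : Nat.card {u : Fˣ // u ^ 2 = 1} = eps F := by
  refine Nat.card_congr ⟨fun u => ⟨(u.1 : F), by rw [← Units.val_pow_eq_pow_val, u.2, Units.val_one]⟩,
    fun w => ⟨⟨w.1, w.1, by rw [← sq, w.2], by rw [← sq, w.2]⟩, Units.ext (by simpa using w.2)⟩,
    fun u => Subtype.ext (Units.ext rfl), fun w => rfl⟩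

theorem card_mulChar_sq : Nat.card {α : MulChar F ℂ // α ^ 2 = 1} = eps F := by
  obtain ⟨e⟩ := MulChar.mulEquiv_units F ℂ
  rw [← card_sq_units]
  exact Nat.card_congr (e.toEquiv.subtypeEquiv fun α => by
    show α ^ 2 = 1 ↔ (e α) ^ 2 = 1
    rw [← map_pow, MulEquiv.map_eq_one_iff])

theorem IsTorus.card_dual (T : IsTorus C) :
    Nat.card (C →* ℂˣ) = Fintype.card F + 1 ∧ Nat.card {θ : C →* ℂˣ // θ ^ 2 = 1} = eps F := by
  haveI := T.cyclic
  letI := IsCyclic.commGroup (α := C)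
  constructor
  · rw [CfsgLib.Blocks.FpfExc.card_homs (fun a b => mul_comm a b), T.card]
  · obtain ⟨e⟩ := CommGroup.monoidHom_mulEquiv_of_hasEnoughRootsOfUnity C ℂ
    rw [Nat.card_congr (e.toEquiv.subtypeEquiv (q := fun c => c ^ 2 = 1) fun θ => by
      show θ ^ 2 = 1 ↔ (e θ) ^ 2 = 1
      rw [← map_pow, MulEquiv.map_eq_one_iff]), eps]
    have hc : ∀ c : C, c ^ 2 = 1 → (c : SpecialLinearGroup (Fin 2) F) ∈
        Subgroup.center (SpecialLinearGroup (Fin 2) F) := by
      intro c hc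
      by_contra hz
      refine ne_inv_of_tr (T.noncentral c.2 hz).2.1 ?_
      rw [eq_inv_iff_mul_eq_one, ← pow_two]
      exact congrArg Subtype.val hc
    refine Nat.card_eq_of_bijective (fun c : {c : C // c ^ 2 = 1} =>
      (⟨(c.1 : SpecialLinearGroup (Fin 2) F).1 0 0, by rw [sq]; exact (center_eq (hc c.1 c.2)).2.2.2.1⟩ :
        {w : F // w ^ 2 = 1})) ⟨fun c d h => Subtype.ext (Subtype.ext
      (center_ext (hc c.1 c.2) (hc d.1 d.2) (congrArg Subtype.val h))), fun w => ?_⟩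
    let z : SpecialLinearGroup (Fin 2) F := mk2 w.1 0 0 w.1 (by rw [← sq, w.2]; simp)
    have hz : z ∈ Subgroup.center (SpecialLinearGroup (Fin 2) F) :=
      center_of_scalar (by simp [z]) (by simp [z]) (by simp [z])
    refine ⟨⟨⟨z, T.center_le hz⟩, Subtype.ext ?_⟩, Subtype.ext (by simp [z])⟩
    show z ^ 2 = 1
    rw [pow_two, mul_eq_one_iff_eq_inv, (center_eq hz).2.2.2.2]

/-- Counting an image under identification of inverse pairs. -/
theorem card_image_pairs {A B : Type*} [CommGroup A] [Fintype A] [DecidableEq A] [DecidableEq B]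
    (f : {a : A // a ^ 2 ≠ 1} → B) (hf : ∀ a b : {a : A // a ^ 2 ≠ 1}, f a = f b ↔ a.1 = b.1 ∨ a.1 * b.1 = 1) :
    2 * (Finset.univ.image f).card + Nat.card {a : A // a ^ 2 = 1} = Nat.card A := by
  have hfib : ∀ b ∈ Finset.univ.image f, (Finset.univ.filter fun a => f a = b).card = 2 := by
    intro b hb
    obtain ⟨a, -, rfl⟩ := Finset.mem_image.1 hb
    have hinv : (a.1⁻¹) ^ 2 ≠ 1 := by rw [inv_pow, ne_eq, inv_eq_one]; exact a.2
    have hne : a ≠ ⟨a.1⁻¹, hinv⟩ := fun e => a.2 (by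
      rw [sq]; exact mul_eq_one_iff_eq_inv.2 (congrArg Subtype.val e))
    rw [show (Finset.univ.filter fun x => f x = f a) = {a, ⟨a.1⁻¹, hinv⟩} from Finset.ext fun x => by
      simp only [Finset.mem_filter, Finset.mem_univ, true_and, hf, Finset.mem_insert, Finset.mem_singleton,
        Subtype.ext_iff, mul_eq_one_iff_eq_inv], Finset.card_pair hne]
  have h := Finset.card_eq_sum_card_image f (Finset.univ : Finset {a : A // a ^ 2 ≠ 1})
  rw [Finset.sum_congr rfl hfib, Finset.sum_const, smul_eq_mul, Finset.card_univ, Fintype.card_subtype_compl] at h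
  have hle := Fintype.card_subtype_le (fun a : A => a ^ 2 = 1)
  rw [Nat.card_eq_fintype_card, Nat.card_eq_fintype_card]
  omega

theorem ff_eq_iff (T : IsTorus C) {α α' : MulChar F ℂ} {θ θ' : C →* ℂˣ} (h : Compat α θ) (h' : Compat α' θ') :
    ff α θ = ff α' θ' ↔ θ = θ' ∨ θ * θ' = 1 := by
  classical
  have a := inner_ff T h h
  have b := inner_ff T h h'
  have c := inner_ff T h' h
  have d := inner_ff T h' h'
  constructor
  · intro e
    by_contra hc
    rw [not_or] at hc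
    rw [if_neg hc.1, if_neg hc.2, add_zero, ← e, a, if_pos rfl] at b
    split_ifs at b <;> norm_num at b
  · intro hor
    rw [if_pos rfl] at a d
    have hsq : θ * θ = 1 ↔ θ' * θ' = 1 := by
      rcases hor with rfl | e
      · rfl
      · constructor <;> intro e2
        · rw [mul_left_cancel (e.trans e2.symm)]; exact e2
        · rw [mul_right_cancel (e.trans e2.symm)]; exact e2
    refine eq_of_inner a (b.trans ?_) (c.trans ?_) (d.trans ?_)
    · by_cases e1 : θ = θ'
      · subst e1; simp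
      · rw [if_neg e1, if_pos (hor.resolve_left e1),
          if_neg fun e2 => e1 (mul_left_cancel (e2.trans (hor.resolve_left e1).symm))]
        ring
    · by_cases e1 : θ' = θ
      · subst e1; simp
      · have e := hor.resolve_left (Ne.symm e1)
        rw [if_neg e1, if_pos (by rw [mul_comm θ' θ]; exact e),
          if_neg fun e2 => e1 (mul_left_cancel (e2.trans e.symm)).symm]
        ring
    · rw [if_congr hsq rfl rfl]

theorem isIrr_ff (T : IsTorus C) {α : MulChar F ℂ} {θ : C →* ℂˣ} (h : Compat α θ) (hθ : θ ^ 2 ≠ 1) :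
    Cfsg.IsIrrCharacter (SpecialLinearGroup (Fin 2) F) (ff α θ) := by
  classical
  refine isIrr_of_int_norm_one (classFun_ff α θ) (ff_int α θ) ?_ (d := Fintype.card F - 1) ?_
  · rw [inner_ff T h h, if_pos rfl, if_neg (fun e => hθ ((pow_two θ).trans e)), add_zero]
  · rw [ff_unit T, Nat.cast_sub Fintype.card_pos, Nat.cast_one]

/-- The compatible central value of a character of the torus. -/
noncomputable def IsTorus.al (T : IsTorus C) (θ : C →* ℂˣ) : MulChar F ℂ := (T.exists_compat θ).choose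

theorem IsTorus.al_compat (T : IsTorus C) (θ : C →* ℂˣ) : Compat (T.al θ) θ := (T.exists_compat θ).choose_spec

/-- The members of the principal series. -/
def IsPS (χ : SpecialLinearGroup (Fin 2) F → ℂ) : Prop := ∃ α : MulChar F ℂ, α ^ 2 ≠ 1 ∧ χ = Rf α

/-- The cuspidal characters of degree `q - 1`. -/
def IsCU (T : IsTorus C) (χ : SpecialLinearGroup (Fin 2) F → ℂ) : Prop :=
  ∃ θ : C →* ℂˣ, θ ^ 2 ≠ 1 ∧ χ = ff (T.al θ) θ

local notation "Irr" => Cfsg.IrrCharacter (SpecialLinearGroup (Fin 2) F)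

theorem inner_irr_eq_zero {G : Type*} [Group G] [Fintype G] (χ ψ : Cfsg.IrrCharacter G) (h : χ ≠ ψ) :
    Cfsg.classInner (χ : G → ℂ) (ψ : G → ℂ) = 0 :=
  classInner_ne χ.2 ψ.2 fun e => h (Subtype.ext e)

theorem inner_St_Rf (β : MulChar F ℂ) :
    Cfsg.classInner (St : SpecialLinearGroup (Fin 2) F → ℂ) (Rf β) = if β = 1 then 1 else 0 := by
  classical
  rw [St, classInner_sub_left, inner_Rf_triv, Rf, Rf, inner_sl]
  simp only [one_mul]
  split_ifs <;> simp_all

/-- The generic part of the table, common to both parities. -/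
theorem exists_generic (T : IsTorus C) : ∃ L : Finset Irr,
    (∀ χ ∈ L, (χ : SpecialLinearGroup (Fin 2) F → ℂ) = (fun _ => 1) ∨ (χ : SpecialLinearGroup (Fin 2) F → ℂ) = St ∨
      IsPS (χ : SpecialLinearGroup (Fin 2) F → ℂ) ∨ IsCU T (χ : SpecialLinearGroup (Fin 2) F → ℂ)) ∧
    L.card + eps F = 2 + Fintype.card F ∧
    (∑ χ ∈ L, (Cfsg.charDegree (χ : SpecialLinearGroup (Fin 2) F → ℂ) : ℤ) ^ 2) * 2 =
      2 + 2 * (Fintype.card F : ℤ) ^ 2 + ((Fintype.card F : ℤ) - 1 - eps F) * ((Fintype.card F : ℤ) + 1) ^ 2 +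
        ((Fintype.card F : ℤ) + 1 - eps F) * ((Fintype.card F : ℤ) - 1) ^ 2 := by
  classical
  haveI := finite_mulChar (F := F)
  haveI : Fintype (MulChar F ℂ) := Fintype.ofFinite _
  haveI := T.cyclic
  haveI : Finite (C →* ℂˣ) := CfsgLib.Blocks.FpfExc.finite_homs fun a b => Subtype.ext (T.comm a.2 b.2)
  haveI : Fintype (C →* ℂˣ) := Fintype.ofFinite _
  letI := IsCyclic.commGroup (α := C)
  let fP : {α : MulChar F ℂ // α ^ 2 ≠ 1} → Irr := fun a => ⟨Rf a.1, isIrr_Rf a.2⟩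
  let fC : {θ : C →* ℂˣ // θ ^ 2 ≠ 1} → Irr := fun a => ⟨ff (T.al a.1) a.1, isIrr_ff T (T.al_compat _) a.2⟩
  let sT : Irr := ⟨St, isIrr_St⟩
  have hP := card_image_pairs fP fun a b => (Subtype.ext_iff).trans (Rf_eq_iff a.1 b.1)
  have hC := card_image_pairs fC fun a b => (Subtype.ext_iff).trans (ff_eq_iff T (T.al_compat _) (T.al_compat _))
  rw [card_mulChar_sq, card_mulChar] at hP
  rw [T.card_dual.1, T.card_dual.2] at hC
  have dP : ∀ χ ∈ Finset.univ.image fP,
      Cfsg.charDegree (χ : SpecialLinearGroup (Fin 2) F → ℂ) = Fintype.card F + 1 := by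
    intro χ hχ
    obtain ⟨a, -, rfl⟩ := Finset.mem_image.1 hχ
    have h := apply_one (isCharacter_of_irr (fP a).2)
    rw [show ((fP a : Irr) : SpecialLinearGroup (Fin 2) F → ℂ) 1 = Rf a.1 1 from rfl, Rf_one] at h
    exact_mod_cast h.symm
  have dC : ∀ χ ∈ Finset.univ.image fC,
      Cfsg.charDegree (χ : SpecialLinearGroup (Fin 2) F → ℂ) = Fintype.card F - 1 := by
    intro χ hχ
    obtain ⟨a, -, rfl⟩ := Finset.mem_image.1 hχ
    have h := apply_one (isCharacter_of_irr (fC a).2)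
    rw [show ((fC a : Irr) : SpecialLinearGroup (Fin 2) F → ℂ) 1 = ff (T.al a.1) a.1 1 from rfl, ff_unit T] at h
    rw [show (Fintype.card F : ℂ) - 1 = ((Fintype.card F - 1 : ℕ) : ℂ) by
      rw [Nat.cast_sub Fintype.card_pos, Nat.cast_one]] at h
    exact_mod_cast h.symm
  have d1 : Cfsg.charDegree ((oneChar : Irr) : SpecialLinearGroup (Fin 2) F → ℂ) = 1 := by
    have h := apply_one (isCharacter_of_irr (oneChar : Irr).2)
    rw [oneChar_apply] at h; exact_mod_cast h.symm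
  have dS : Cfsg.charDegree (sT : SpecialLinearGroup (Fin 2) F → ℂ) = Fintype.card F := by
    have h := apply_one (isCharacter_of_irr sT.2)
    rw [show (sT : SpecialLinearGroup (Fin 2) F → ℂ) 1 = St 1 from rfl, St_one] at h; exact_mod_cast h.symm
  have hq := Fintype.one_lt_card (α := F)
  have hdPC : Disjoint (Finset.univ.image fP) (Finset.univ.image fC) :=
    Finset.disjoint_left.2 fun χ h h' => by have := dP χ h; have := dC χ h'; omega
  have hSn : sT ∉ Finset.univ.image fP ∪ Finset.univ.image fC := by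
    rw [Finset.mem_union]
    rintro (h | h)
    · have := dP _ h; omega
    · have := dC _ h; omega
  have h1n : (oneChar : Irr) ∉ insert sT (Finset.univ.image fP ∪ Finset.univ.image fC) := by
    rw [Finset.mem_insert, Finset.mem_union]
    rintro (h | h | h)
    · rw [h] at d1; omega
    · have := dP _ h; omega
    · obtain ⟨a, -, ha⟩ := Finset.mem_image.1 h
      have hne : a.1 ≠ 1 := fun e => a.2 (by rw [e]; exact one_pow (M := C →* ℂˣ) 2)
      have hval : ff (T.al a.1) a.1 = fun _ : SpecialLinearGroup (Fin 2) F => (1 : ℂ) := congrArg Subtype.val ha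
      have h0 := inner_ff_one T (T.al a.1) hne
      rw [hval, classInner_self isIrrCharacter_one] at h0
      exact one_ne_zero h0
  refine ⟨insert oneChar (insert sT (Finset.univ.image fP ∪ Finset.univ.image fC)), ?_, ?_, ?_⟩
  · intro χ hχ
    simp only [Finset.mem_insert, Finset.mem_union, Finset.mem_image, Finset.mem_univ, true_and] at hχ
    rcases hχ with rfl | rfl | ⟨a, rfl⟩ | ⟨a, rfl⟩
    · exact Or.inl rfl
    · exact Or.inr (Or.inl rfl)
    · exact Or.inr (Or.inr (Or.inl ⟨a.1, a.2, rfl⟩))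
    · exact Or.inr (Or.inr (Or.inr ⟨a.1, a.2, rfl⟩))
  · rw [Finset.card_insert_of_notMem h1n, Finset.card_insert_of_notMem hSn, Finset.card_union_of_disjoint hdPC]
    omega
  · rw [Finset.sum_insert h1n, Finset.sum_insert hSn, Finset.sum_union hdPC, d1, dS,
      Finset.sum_congr rfl (fun χ hχ => by rw [dP χ hχ]) (s₁ := Finset.univ.image fP),
      Finset.sum_congr rfl (fun χ hχ => by rw [dC χ hχ]) (s₁ := Finset.univ.image fC), Finset.sum_const,
      Finset.sum_const, nsmul_eq_mul, nsmul_eq_mul]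
    have e1 : (2 : ℤ) * ((Finset.univ.image fP).card : ℤ) = (Fintype.card F : ℤ) - 1 - eps F := by omega
    have e2 : (2 : ℤ) * ((Finset.univ.image fC).card : ℤ) = (Fintype.card F : ℤ) + 1 - eps F := by omega
    push_cast [Nat.cast_sub (show 1 ≤ Fintype.card F by omega)]
    linear_combination ((Fintype.card F : ℤ) + 1) ^ 2 * e1 + ((Fintype.card F : ℤ) - 1) ^ 2 * e2

theorem one_half_not_integral {z : ℂ} (hz : IsIntegral ℤ z) : 2 * z ≠ 1 ∧ 2 * z ≠ -1 := by
  have key : ∀ w : ℂ, IsIntegral ℤ w → 2 * w ≠ 1 := by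
    intro w hw e
    have h1 : ((1 : ℕ) : ℂ) / ((2 : ℕ) : ℂ) = w := by push_cast; linear_combination -e / 2
    have := nat_dvd_of_isIntegral 1 2 (by norm_num) (h1 ▸ hw)
    omega
  exact ⟨key z hz, fun e => key (-z) hz.neg (by linear_combination -e)⟩

theorem isSquare_or_mul {e : Fˣ} (he : ¬IsSquare (e : F)) (c : F) (hc : c ≠ 0) :
    IsConj (upperU (1 : F)) (upperU c) ∨ IsConj (upperU (e : F)) (upperU c) := by
  have h2 : (2 : F) ≠ 0 := fun h2 => he (by
    have : CharP F 2 := CharTwo.of_one_ne_zero_of_two_eq_zero one_ne_zero h2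
    exact FiniteField.isSquare_of_char_two (CharP.eq _ (ringChar.charP F) this) _)
  refine isConj_upperU_one_or h2 he ?_ (tr_upperU c)
  intro h
  exact hc (upperU_injective (h.trans upperU_zero.symm))

/-- A class function fixed by a diagonal automorphism of non-square parameter is constant on unipotents. -/
theorem uSum_fixed {f : SpecialLinearGroup (Fin 2) F → ℂ}
    (hf : Cfsg.IsCharacter (SpecialLinearGroup (Fin 2) F) f) {e : Fˣ} (he : ¬IsSquare (e : F))
    (hfix : ∀ g, f (tau e g) = f g) :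
    uSum f = f 1 + ((Fintype.card F : ℂ) - 1) * f (upperU 1) := by
  have hc : ∀ c : F, c ≠ 0 → f (upperU c) = f (upperU 1) := by
    intro c hc
    rcases isSquare_or_mul he c hc with h | h
    · exact (apply_isConj hf h).symm
    · rw [← apply_isConj hf h, ← hfix (upperU 1), tau_upperU, mul_one]
  rw [uSum, ← Finset.add_sum_erase _ _ (Finset.mem_univ (0 : F)), upperU_zero,
    Finset.sum_congr rfl (fun c hc' => hc c (Finset.ne_of_mem_erase hc')), Finset.sum_const,
    Finset.card_erase_of_mem (Finset.mem_univ _), Finset.card_univ, nsmul_eq_mul,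
    Nat.cast_sub Fintype.card_pos, Nat.cast_one]

/-- The table in odd characteristic. -/
structure OddTable (T : IsTorus C) where
  α₀ : MulChar F ℂ
  hα₀ : α₀ ^ 2 = 1
  hα₀1 : α₀ ≠ 1
  θ₀ : C →* ℂˣ
  hθ₀ : θ₀ ^ 2 = 1
  hθ₀1 : θ₀ ≠ 1
  e : Fˣ
  he : ¬IsSquare (e : F)
  h₁ : Irr
  h₂ : Irr
  s₁ : Irr
  s₂ : Irr
  hne : h₁ ≠ h₂
  sne : s₁ ≠ s₂
  hdeg₁ : (h₁ : SpecialLinearGroup (Fin 2) F → ℂ) 1 = (((Fintype.card F + 1) / 2 : ℕ) : ℂ)
  hdeg₂ : (h₂ : SpecialLinearGroup (Fin 2) F → ℂ) 1 = (((Fintype.card F + 1) / 2 : ℕ) : ℂ)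
  sdeg₁ : (s₁ : SpecialLinearGroup (Fin 2) F → ℂ) 1 = (((Fintype.card F - 1) / 2 : ℕ) : ℂ)
  sdeg₂ : (s₂ : SpecialLinearGroup (Fin 2) F → ℂ) 1 = (((Fintype.card F - 1) / 2 : ℕ) : ℂ)
  hsum : ∀ g, (h₁ : SpecialLinearGroup (Fin 2) F → ℂ) g + (h₂ : SpecialLinearGroup (Fin 2) F → ℂ) g = Rf α₀ g
  ssum : ∀ g, (s₁ : SpecialLinearGroup (Fin 2) F → ℂ) g + (s₂ : SpecialLinearGroup (Fin 2) F → ℂ) g =
    ff (T.al θ₀) θ₀ g
  hswap : ∀ g, (h₁ : SpecialLinearGroup (Fin 2) F → ℂ) (tau e g) = (h₂ : SpecialLinearGroup (Fin 2) F → ℂ) g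
  sswap : ∀ g, (s₁ : SpecialLinearGroup (Fin 2) F → ℂ) (tau e g) = (s₂ : SpecialLinearGroup (Fin 2) F → ℂ) g
  scusp : ∀ β : MulChar F ℂ, Cfsg.classInner (s₁ : SpecialLinearGroup (Fin 2) F → ℂ) (Rf β) = 0 ∧
    Cfsg.classInner (s₂ : SpecialLinearGroup (Fin 2) F → ℂ) (Rf β) = 0
  complete : ∀ χ : Irr, ((χ : SpecialLinearGroup (Fin 2) F → ℂ) = fun _ => 1) ∨
    (χ : SpecialLinearGroup (Fin 2) F → ℂ) = St ∨ IsPS (χ : SpecialLinearGroup (Fin 2) F → ℂ) ∨
    IsCU T (χ : SpecialLinearGroup (Fin 2) F → ℂ) ∨ χ = h₁ ∨ χ = h₂ ∨ χ = s₁ ∨ χ = s₂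

theorem eps_odd (hodd : Odd (Fintype.card F)) : (2 : F) ≠ 0 ∧ eps F = 2 := by
  have h2 : (2 : F) ≠ 0 := by
    intro h
    haveI : CharP F 2 := CharTwo.of_one_ne_zero_of_two_eq_zero one_ne_zero h
    have := FiniteField.even_card_of_char_two (F := F) (CharP.eq _ (ringChar.charP F) ‹_›)
    rw [Nat.odd_iff] at hodd; omega
  exact ⟨h2, card_sq_eq_one_odd h2⟩

set_option maxHeartbeats 4000000 in
theorem nonempty_oddTable (hodd : Odd (Fintype.card F)) (T : IsTorus C) : Nonempty (OddTable T) := by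
  classical
  haveI := finite_mulChar (F := F)
  haveI : Fintype (MulChar F ℂ) := Fintype.ofFinite _
  obtain ⟨h2, heps⟩ := eps_odd hodd
  haveI := T.cyclic
  haveI : Finite (C →* ℂˣ) := CfsgLib.Blocks.FpfExc.finite_homs fun a b => Subtype.ext (T.comm a.2 b.2)
  letI := IsCyclic.commGroup (α := C)
  haveI : Nontrivial {α : MulChar F ℂ // α ^ 2 = 1} :=
    Finite.one_lt_card_iff_nontrivial.1 (by rw [card_mulChar_sq, heps]; norm_num)
  haveI : Nontrivial {θ : C →* ℂˣ // θ ^ 2 = 1} :=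
    Finite.one_lt_card_iff_nontrivial.1 (by rw [T.card_dual.2, heps]; norm_num)
  obtain ⟨⟨α₀, hα₀⟩, hα'⟩ := exists_ne (⟨1, one_pow 2⟩ : {α : MulChar F ℂ // α ^ 2 = 1})
  obtain ⟨⟨θ₀, hθ₀⟩, hθ'⟩ := exists_ne (⟨1, one_pow (M := C →* ℂˣ) 2⟩ : {θ : C →* ℂˣ // θ ^ 2 = 1})
  have hα₀1 : α₀ ≠ 1 := fun e => hα' (Subtype.ext e)
  have hθ₀1 : θ₀ ≠ 1 := fun e => hθ' (Subtype.ext e)
  obtain ⟨e₀, he₀⟩ := exists_nonsquare h2
  set e : Fˣ := Units.mk0 e₀ fun h => he₀ (h ▸ IsSquare.zero) with hedef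
  have he : ¬IsSquare (e : F) := he₀
  obtain ⟨f₁, f₂, i₁, i₂, hfne, hf, hd₁, hd₂, -⟩ := Cfsg.Agent.S2307.result hodd α₀ hα₀ hα₀1
  replace hf : Rf α₀ = f₁ + f₂ := hf
  let h₁ : Irr := ⟨f₁, i₁⟩
  let h₂ : Irr := ⟨f₂, i₂⟩
  have hne : h₁ ≠ h₂ := fun h => hfne (congrArg Subtype.val h)
  have hRh : ∀ χ : Irr, Cfsg.classInner (χ : SpecialLinearGroup (Fin 2) F → ℂ) (Rf α₀) =
      (if χ = h₁ then 1 else 0) + if χ = h₂ then 1 else 0 := by
    intro χ
    have hadd : Cfsg.classInner (χ : SpecialLinearGroup (Fin 2) F → ℂ) (f₁ + f₂) =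
        Cfsg.classInner (χ : SpecialLinearGroup (Fin 2) F → ℂ) (h₁ : SpecialLinearGroup (Fin 2) F → ℂ) +
        Cfsg.classInner (χ : SpecialLinearGroup (Fin 2) F → ℂ) (h₂ : SpecialLinearGroup (Fin 2) F → ℂ) := by
      simp only [classInner_eq, Pi.add_apply, map_add, mul_add, Finset.sum_add_distrib]
      rfl
    rw [hf, hadd, classInner_irr, classInner_irr]
  have hR0 := inner_sl α₀
  -- the generic part
  obtain ⟨L, hL, hLc, hLs⟩ := exists_generic T
  rw [heps] at hLc hLs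
  have hLH : ∀ χ ∈ L, Cfsg.classInner (χ : SpecialLinearGroup (Fin 2) F → ℂ) (Rf α₀) = 0 := by
    intro χ hχ
    rcases hL χ hχ with h | h | ⟨a, ha, h⟩ | ⟨θ, hθ, h⟩ <;> rw [h]
    · rw [inner_Rf_triv, if_neg hα₀1]
    · rw [inner_St_Rf, if_neg hα₀1]
    · rw [Rf, Rf, inner_sl, if_neg fun (e : a = α₀) => ha (e ▸ hα₀), if_neg fun e => ha ?_, add_zero]
      rw [sq] at hα₀
      rw [show a = α₀ from mul_right_cancel (e.trans hα₀.symm), sq, hα₀]
    · exact inner_ff_Rf T (T.al_compat θ) α₀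
  have hh₁ : h₁ ∉ L := fun h => by
    have := hLH _ h
    rw [hRh, if_pos rfl, if_neg hne, add_zero] at this
    exact one_ne_zero this
  have hh₂ : h₂ ∉ L := fun h => by
    have := hLH _ h
    rw [hRh, if_pos rfl, if_neg hne.symm, zero_add] at this
    exact one_ne_zero this
  set K : Finset Irr := insert h₁ (insert h₂ L) with hK
  have hn1 : h₁ ∉ insert h₂ L := by rw [Finset.mem_insert, not_or]; exact ⟨hne, hh₁⟩
  have hKc : K.card = Fintype.card F + 2 := by
    rw [hK, Finset.card_insert_of_notMem hn1, Finset.card_insert_of_notMem hh₂]; omega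
  haveI : Fintype Irr := @Fintype.ofFinite _ finite_irrCharacter
  have hIrr : Fintype.card Irr = Fintype.card F + 4 := by
    rw [← Nat.card_eq_fintype_card, card_irr, card_conjClasses_odd hodd]
  obtain ⟨s₁, s₂, hsne, hKs⟩ := Finset.card_eq_two.1 (show Kᶜ.card = 2 by
    rw [Finset.card_compl, hKc, hIrr]; omega)
  have hmemc : ∀ χ : Irr, χ ∈ K ∨ χ = s₁ ∨ χ = s₂ := fun χ => by
    by_cases h : χ ∈ K
    · exact Or.inl h
    · exact Or.inr (by simpa [hKs] using (Finset.mem_compl.2 h))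
  set d : Irr → ℤ := fun χ => (Cfsg.charDegree (χ : SpecialLinearGroup (Fin 2) F → ℂ) : ℤ) with hd
  obtain ⟨k, hk⟩ := hodd
  have hdh : d h₁ = (k : ℤ) + 1 ∧ d h₂ = (k : ℤ) + 1 := by
    have a := apply_one (isCharacter_of_irr h₁.2)
    have b := apply_one (isCharacter_of_irr h₂.2)
    rw [show (h₁ : SpecialLinearGroup (Fin 2) F → ℂ) 1 = f₁ 1 from rfl, hd₁] at a
    rw [show (h₂ : SpecialLinearGroup (Fin 2) F → ℂ) 1 = f₂ 1 from rfl, hd₂] at b
    simp only [hd]
    constructor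
    · have := Nat.cast_injective a; omega
    · have := Nat.cast_injective b; omega
  have hsq : d s₁ ^ 2 + d s₂ ^ 2 = 2 * (k : ℤ) ^ 2 := by
    have htot : ∑ χ, d χ ^ 2 = (Nat.card (SpecialLinearGroup (Fin 2) F) : ℤ) := by
      rw [← sum_sq_degree]; push_cast; rfl
    rw [← Finset.sum_add_sum_compl K, hKs, Finset.sum_pair hsne, hK, Finset.sum_insert hn1,
      Finset.sum_insert hh₂, hdh.1, hdh.2, card_SL2, Nat.cast_mul,
      Nat.cast_sub (Nat.one_le_pow _ _ Fintype.card_pos), hk] at htot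
    rw [hk] at hLs
    push_cast at htot hLs
    linarith [hLs]
  -- the second special class function
  set f₀ := ff (T.al θ₀) θ₀ with hf₀
  have hcomp := T.al_compat θ₀
  choose n hn using ff_int (T.al θ₀) θ₀
  obtain ⟨hA, hBd⟩ := int_expansion (classFun_ff (T.al θ₀) θ₀) n hn
  have htau₁ : ∀ χ : Irr, ∃ χ' : Irr, ∀ g, (χ' : SpecialLinearGroup (Fin 2) F → ℂ) g =
      (χ : SpecialLinearGroup (Fin 2) F → ℂ) (tau e g) := fun χ =>
    ⟨⟨_, CfsgLib.Clifford.isIrrCharacter_comp χ.2 (tau e).toMonoidHom (tau e).surjective⟩, fun g => rfl⟩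
  choose τ' hτ' using htau₁
  have htau_inner : ∀ (χ : Irr) (f : SpecialLinearGroup (Fin 2) F → ℂ), (∀ g, f (tau e g) = f g) →
      Cfsg.classInner f (τ' χ : SpecialLinearGroup (Fin 2) F → ℂ) =
        Cfsg.classInner f (χ : SpecialLinearGroup (Fin 2) F → ℂ) := by
    intro χ f hfi
    conv_rhs => rw [← CfsgLib.Clifford.classInner_comp_equiv (tau e) f (χ : SpecialLinearGroup (Fin 2) F → ℂ)]
    congr 1
    · exact funext fun g => (hfi g).symm
    · exact funext fun g => hτ' χ g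
  have hu : ∀ χ : Irr, (∀ g, (τ' χ : SpecialLinearGroup (Fin 2) F → ℂ) g = (χ : SpecialLinearGroup (Fin 2) F → ℂ) g) →
      uSum (χ : SpecialLinearGroup (Fin 2) F → ℂ) = (d χ : ℂ) +
        (2 * (k : ℂ)) * (χ : SpecialLinearGroup (Fin 2) F → ℂ) (upperU 1) := by
    intro χ hfix
    rw [uSum_fixed (isCharacter_of_irr χ.2) he (fun g => (hτ' χ g).symm.trans (hfix g)),
      apply_one (isCharacter_of_irr χ.2), hk]
    simp only [hd]
    push_cast
    ring
  have hk1 : 1 ≤ k := by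
    have := Fintype.one_lt_card (α := F)
    omega
  -- the swap of the halves
  have huR : uSum (Rf α₀ : SpecialLinearGroup (Fin 2) F → ℂ) = 2 * (2 * (k : ℂ) + 1) := by
    have hc : ∀ c ∈ Finset.univ.erase (0 : F), Rf α₀ (upperU c) = 1 := fun c hc => by
      rw [Rf_unipotent α₀ _ (by simp) (by simp) (by simpa using Finset.ne_of_mem_erase hc)]
      simp
    rw [uSum, ← Finset.add_sum_erase _ _ (Finset.mem_univ (0 : F)), upperU_zero, Rf_one,
      Finset.sum_congr rfl hc, Finset.sum_const, Finset.card_erase_of_mem (Finset.mem_univ _), Finset.card_univ,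
      hk, nsmul_eq_mul, Nat.add_sub_cancel]
    push_cast; ring
  have hswap : τ' h₁ = h₂ := by
    have hr : ∀ g, Rf α₀ (tau e g) = Rf α₀ g := Rf_tau α₀ e
    have h := htau_inner h₁ (Rf α₀) hr
    rw [classInner_comm (τ' h₁ : SpecialLinearGroup (Fin 2) F → ℂ) (Rf α₀), hRh,
      classInner_comm (h₁ : SpecialLinearGroup (Fin 2) F → ℂ) (Rf α₀), hRh, if_pos rfl, if_neg hne, add_zero,
      map_one] at h
    by_contra h2'
    rw [if_neg h2', add_zero] at h
    by_cases h1' : τ' h₁ = h₁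
    swap
    · rw [if_neg h1', map_zero] at h; exact zero_ne_one h
    obtain ⟨m₁, hm₁⟩ := uSum_nat (isCharacter_of_irr h₁.2)
    obtain ⟨m₂, hm₂⟩ := uSum_nat (isCharacter_of_irr h₂.2)
    have hsum : m₁ + m₂ = 2 := by
      have hadd : uSum (Rf α₀) = uSum (h₁ : SpecialLinearGroup (Fin 2) F → ℂ) +
          uSum (h₂ : SpecialLinearGroup (Fin 2) F → ℂ) := by
        simp only [uSum, ← Finset.sum_add_distrib, hf]; rfl
      rw [hm₁, hm₂, huR, hk] at hadd
      have h' : ((2 * k + 1 : ℕ) : ℂ) * ((m₁ + m₂ : ℕ) : ℂ) = ((2 * k + 1 : ℕ) : ℂ) * ((2 : ℕ) : ℂ) := by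
        push_cast at hadd ⊢; linear_combination -hadd
      exact_mod_cast mul_left_cancel₀ (Nat.cast_ne_zero.2 (by omega)) h'
    have hpos : ∀ (χ : Irr) (m : ℕ), Cfsg.classInner (χ : SpecialLinearGroup (Fin 2) F → ℂ) (Rf α₀) = 1 →
        uSum (χ : SpecialLinearGroup (Fin 2) F → ℂ) = (Fintype.card F : ℂ) * m → 0 < m := by
      intro χ m h1 hm
      by_contra h0
      rw [not_lt, Nat.le_zero] at h0
      rw [h0, Nat.cast_zero, mul_zero] at hm
      rw [inner_Rf_eq_zero (isCharacter_of_irr χ.2) hm] at h1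
      exact zero_ne_one h1
    have p1 := hpos h₁ m₁ (by rw [hRh, if_pos rfl, if_neg hne, add_zero]) hm₁
    have p2 := hpos h₂ m₂ (by rw [hRh, if_pos rfl, if_neg hne.symm, zero_add]) hm₂
    have he1 : m₁ = 1 := by omega
    have := hu h₁ (fun g => by rw [h1'])
    rw [hm₁, he1, hk, hdh.1] at this
    refine (one_half_not_integral (isIntegral_apply (isCharacter_of_irr h₁.2) (upperU 1))).1 ?_
    have hkc : (k : ℂ) ≠ 0 := Nat.cast_ne_zero.2 (by omega)
    push_cast at this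
    exact mul_left_cancel₀ hkc (by linear_combination -this)
  -- inner products of f₀
  have hf0R : ∀ β, Cfsg.classInner f₀ (Rf β) = 0 := inner_ff_Rf T hcomp
  have hf0K : ∀ χ ∈ K, n χ = 0 := by
    intro χ hχ
    suffices h : Cfsg.classInner f₀ (χ : SpecialLinearGroup (Fin 2) F → ℂ) = 0 by
      rw [hn] at h; exact_mod_cast h
    have hf01 : Cfsg.classInner f₀ (fun _ => (1 : ℂ)) = 0 := inner_ff_one T _ hθ₀1
    have e1 : Cfsg.classInner f₀ (h₁ : SpecialLinearGroup (Fin 2) F → ℂ) =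
        Cfsg.classInner f₀ (h₂ : SpecialLinearGroup (Fin 2) F → ℂ) := by
      rw [← hswap]
      exact (htau_inner h₁ f₀ (fun g => ff_tau T _ _ e g)).symm
    have e2 : Cfsg.classInner f₀ (h₁ : SpecialLinearGroup (Fin 2) F → ℂ) +
        Cfsg.classInner f₀ (h₂ : SpecialLinearGroup (Fin 2) F → ℂ) = 0 := by
      rw [← hf0R α₀, hf]
      simp only [classInner_eq, Pi.add_apply, map_add, mul_add, Finset.sum_add_distrib]
      rfl
    simp only [hK, Finset.mem_insert] at hχ
    rcases hχ with rfl | rfl | hχ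
    · linear_combination (e2 + e1) / 2
    · linear_combination (e2 - e1) / 2
    rcases hL χ hχ with h | h | ⟨a, ha, h⟩ | ⟨θ, hθ, h⟩ <;> rw [h]
    · exact hf01
    · rw [St, classInner_sub_right, hf0R, hf01, sub_zero]
    · exact hf0R a
    · rw [inner_ff T hcomp (T.al_compat θ), if_neg fun (e : θ₀ = θ) => hθ (e ▸ hθ₀), if_neg fun e => hθ ?_,
        add_zero]
      rw [sq] at hθ₀
      rw [show θ = θ₀ from mul_left_cancel (e.trans hθ₀.symm), sq, hθ₀]
  rw [inner_ff T hcomp hcomp, if_pos rfl, if_pos ((pow_two θ₀).symm.trans hθ₀), ← Finset.sum_add_sum_compl K,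
    Finset.sum_eq_zero (fun χ hχ => by rw [hf0K χ hχ]; norm_num), zero_add, hKs, Finset.sum_pair hsne] at hA
  rw [← Finset.sum_add_sum_compl K, Finset.sum_eq_zero (fun χ hχ => by rw [hf0K χ hχ, zero_mul]), zero_add, hKs,
    Finset.sum_pair hsne, ff_unit T, hk] at hBd
  have hA' : n s₁ ^ 2 + n s₂ ^ 2 = 2 := by
    have : (((n s₁ ^ 2 + n s₂ ^ 2 : ℤ)) : ℂ) = ((2 : ℤ) : ℂ) := by rw [← hA]; norm_num
    exact_mod_cast this
  have hB' : n s₁ * d s₁ + n s₂ * d s₂ = 2 * (k : ℤ) := by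
    have : ((n s₁ * d s₁ + n s₂ * d s₂ : ℤ) : ℂ) = ((2 * (k : ℤ) : ℤ) : ℂ) := by
      rw [← hBd]; push_cast; ring
    exact_mod_cast this
  have hd1pos : 0 < d s₁ := by simp only [hd]; exact_mod_cast charDegree_pos s₁.2
  have hd2pos : 0 < d s₂ := by simp only [hd]; exact_mod_cast charDegree_pos s₂.2
  have hsigns : n s₁ = 1 ∧ n s₂ = 1 ∧ d s₁ = (k : ℤ) ∧ d s₂ = (k : ℤ) := by
    have ha : n s₁ ^ 2 ≤ 2 := by nlinarith
    have hb : n s₂ ^ 2 ≤ 2 := by nlinarith
    have a1 : -1 ≤ n s₁ := by nlinarith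
    have a2 : n s₁ ≤ 1 := by nlinarith
    have b1 : -1 ≤ n s₂ := by nlinarith
    have b2 : n s₂ ≤ 1 := by nlinarith
    have c1 : n s₁ = 1 ∨ n s₁ = -1 := by
      by_contra hc
      rw [show n s₁ = 0 by omega] at hA'
      rcases (show n s₂ = -1 ∨ n s₂ = 0 ∨ n s₂ = 1 by omega) with e | e | e <;> rw [e] at hA' <;> norm_num at hA'
    have c2 : n s₂ = 1 ∨ n s₂ = -1 := by
      by_contra hc
      rw [show n s₂ = 0 by omega] at hA'
      rcases c1 with e | e <;> rw [e] at hA' <;> norm_num at hA'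
    rcases c1 with e1 | e1 <;> rcases c2 with e2 | e2 <;> rw [e1, e2] at hB' <;> simp only [one_mul, neg_one_mul] at hB'
    · have : (d s₁ - d s₂) ^ 2 = 0 := by nlinarith
      have := sq_eq_zero_iff.1 this
      exact ⟨e1, e2, by linarith, by linarith⟩
    · exfalso; nlinarith
    · exfalso; nlinarith
    · exfalso; linarith
  obtain ⟨hn1', hn2', hds1, hds2⟩ := hsigns
  have hexp := classFun_expand (classFun_ff (T.al θ₀) θ₀)
  have hssum : ∀ g, (s₁ : SpecialLinearGroup (Fin 2) F → ℂ) g + (s₂ : SpecialLinearGroup (Fin 2) F → ℂ) g = f₀ g := by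
    intro g
    have h := congrFun hexp g
    rw [← Finset.sum_add_sum_compl K, Finset.sum_eq_zero (fun χ hχ => by
      rw [hn χ, hf0K χ hχ, Int.cast_zero, zero_smul]), zero_add, hKs, Finset.sum_pair hsne, hn, hn, hn1', hn2'] at h
    simpa using h.symm
  have hscusp : ∀ β : MulChar F ℂ, Cfsg.classInner (s₁ : SpecialLinearGroup (Fin 2) F → ℂ) (Rf β) = 0 ∧
      Cfsg.classInner (s₂ : SpecialLinearGroup (Fin 2) F → ℂ) (Rf β) = 0 := by
    intro β
    obtain ⟨a, ha⟩ := classInner_characters_nat (isCharacter_of_irr s₁.2) (isCharacter_Rf β)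
    obtain ⟨b, hb⟩ := classInner_characters_nat (isCharacter_of_irr s₂.2) (isCharacter_Rf β)
    have h : Cfsg.classInner f₀ (Rf β) = Cfsg.classInner (s₁ : SpecialLinearGroup (Fin 2) F → ℂ) (Rf β) +
        Cfsg.classInner (s₂ : SpecialLinearGroup (Fin 2) F → ℂ) (Rf β) := by
      rw [← classInner_add_left]
      exact congrArg (fun f => Cfsg.classInner f (Rf β)) (funext fun g => (hssum g).symm)
    rw [hf0R, ha, hb] at h
    have h0 : a + b = 0 := by exact_mod_cast h.symm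
    rw [ha, hb, show a = 0 by omega, show b = 0 by omega]
    simp
  have hsswap : τ' s₁ = s₂ := by
    have h := htau_inner s₁ f₀ (fun g => ff_tau T _ _ e g)
    rw [hn, hn, hn1'] at h
    have h' : n (τ' s₁) = 1 := by exact_mod_cast h
    rcases hmemc (τ' s₁) with hm | hm | hm
    · rw [hf0K _ hm] at h'; norm_num at h'
    swap
    · exact hm
    exfalso
    have := hu s₁ (fun g => by rw [hm])
    have hu0 : uSum (s₁ : SpecialLinearGroup (Fin 2) F → ℂ) = 0 := by
      have hs := sum_inner_Rf (classFun_ff (T.al θ₀) θ₀)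
      have hz := sum_inner_Rf (isClassFunction (isCharacter_of_irr s₁.2))
      rw [Finset.sum_eq_zero (fun β _ => (hscusp β).1)] at hz
      exact (mul_eq_zero.1 hz.symm).resolve_left (inv_ne_zero (Nat.cast_ne_zero.2 Fintype.card_ne_zero))
    rw [hu0, hds1] at this
    refine (one_half_not_integral (isIntegral_apply (isCharacter_of_irr s₁.2) (upperU 1))).2 ?_
    have hkc : (k : ℂ) ≠ 0 := Nat.cast_ne_zero.2 (by omega)
    push_cast at this
    exact mul_left_cancel₀ hkc (by linear_combination -this)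
  refine ⟨{
    α₀ := α₀, hα₀ := hα₀, hα₀1 := hα₀1, θ₀ := θ₀, hθ₀ := hθ₀, hθ₀1 := hθ₀1, e := e, he := he,
    h₁ := h₁, h₂ := h₂, s₁ := s₁, s₂ := s₂, hne := hne, sne := hsne, hdeg₁ := hd₁, hdeg₂ := hd₂,
    sdeg₁ := ?_, sdeg₂ := ?_, hsum := fun g => (congrFun hf g).symm, ssum := hssum,
    hswap := fun g => by rw [← hswap, hτ'], sswap := fun g => by rw [← hsswap, hτ'], scusp := hscusp,
    complete := fun χ => ?_ }⟩
  · rw [apply_one (isCharacter_of_irr s₁.2), show (Fintype.card F - 1) / 2 = k by omega]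
    have : (Cfsg.charDegree (s₁ : SpecialLinearGroup (Fin 2) F → ℂ) : ℤ) = (k : ℤ) := hds1
    exact_mod_cast this
  · rw [apply_one (isCharacter_of_irr s₂.2), show (Fintype.card F - 1) / 2 = k by omega]
    have : (Cfsg.charDegree (s₂ : SpecialLinearGroup (Fin 2) F → ℂ) : ℤ) = (k : ℤ) := hds2
    exact_mod_cast this
  · rcases hmemc χ with h | h | h
    · simp only [hK, Finset.mem_insert] at h
      rcases h with h | h | h
      · exact Or.inr (Or.inr (Or.inr (Or.inr (Or.inl h))))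
      · exact Or.inr (Or.inr (Or.inr (Or.inr (Or.inr (Or.inl h)))))
      · rcases hL χ h with h | h | h | h
        · exact Or.inl h
        · exact Or.inr (Or.inl h)
        · exact Or.inr (Or.inr (Or.inl h))
        · exact Or.inr (Or.inr (Or.inr (Or.inl h)))
    · exact Or.inr (Or.inr (Or.inr (Or.inr (Or.inr (Or.inr (Or.inl h))))))
    · exact Or.inr (Or.inr (Or.inr (Or.inr (Or.inr (Or.inr (Or.inr h))))))

/-- The table in characteristic two. -/
theorem complete_even [CharP F 2] (T : IsTorus C) (χ : Irr) :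
    ((χ : SpecialLinearGroup (Fin 2) F → ℂ) = fun _ => 1) ∨ (χ : SpecialLinearGroup (Fin 2) F → ℂ) = St ∨
      IsPS (χ : SpecialLinearGroup (Fin 2) F → ℂ) ∨ IsCU T (χ : SpecialLinearGroup (Fin 2) F → ℂ) := by
  classical
  haveI : Fintype Irr := @Fintype.ofFinite _ finite_irrCharacter
  obtain ⟨L, hL, hLc, -⟩ := exists_generic T
  have heps : eps F = 1 := card_sq_eq_one_even CharTwo.two_eq_zero
  have hLu : L = Finset.univ := Finset.eq_univ_of_card _ (by
    rw [← Nat.card_eq_fintype_card, card_irr, card_conjClasses_even]; omega)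
  exact hL χ (hLu ▸ Finset.mem_univ χ)

end CfsgLib.SL2Char
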